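import Mathlib.Analysis.Normed.Module.FiniteDimension
import Mathlib.LinearAlgebra.Dimension.Free
import Mathlib.Algebra.Order.Floor.Semiring
import Mathlib.Tactic

/-!
# Nonnegative kernel vectors of integer matrices
-/

namespace Groth.Agent.InstabFanLib

open Finset

variable {N κ : Type*} [Fintype N]

/-- a real vector killed by an integer matrix -/
def InKer (A : κ → N → ℤ) (w : N → ℝ) : Prop := ∀ k, ∑ i, (A k i : ℝ) * w i = 0

/-- a real kernel vector is a real combination of integer kernel vectors with no larger support -/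
theorem exists_combination (A : κ → N → ℤ) (w : N → ℝ) (h : InKer A w) :
    ∃ (d : ℕ) (q : Fin d → N → ℤ) (β : Fin d → ℝ),
      (∀ j k, ∑ i, A k i * q j i = 0) ∧ (∀ i, w i = ∑ j, β j * q j i) ∧ ∀ i, w i = 0 → ∀ j, q j i = 0 := by
  classical
  let V : Submodule ℚ ℝ := Submodule.span ℚ (Set.range w)
  haveI : FiniteDimensional ℚ V := FiniteDimensional.span_of_finite ℚ (Set.finite_range w)
  set b := Module.finBasis ℚ V
  let v : N → V := fun i => ⟨w i, Submodule.subset_span ⟨i, rfl⟩⟩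
  let D : ℕ := ∏ i, ∏ j, (b.repr (v i) j).den
  have hD : D ≠ 0 := Finset.prod_ne_zero_iff.2 fun i _ => Finset.prod_ne_zero_iff.2 fun j _ => (b.repr (v i) j).den_nz
  have hq : ∀ j i, ∃ z : ℤ, (z : ℚ) = D * b.repr (v i) j := fun j i => by
    obtain ⟨t, ht⟩ : (b.repr (v i) j).den ∣ D :=
      (Finset.dvd_prod_of_mem (fun j => (b.repr (v i) j).den) (mem_univ j)).trans
        (Finset.dvd_prod_of_mem (fun i => ∏ j, (b.repr (v i) j).den) (mem_univ i))
    refine ⟨t * (b.repr (v i) j).num, ?_⟩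
    rw [ht]; push_cast
    rw [mul_comm ((b.repr (v i) j).den : ℚ), mul_assoc, Rat.den_mul_eq_num]
  choose q hq using hq
  refine ⟨_, q, fun j => (b j : ℝ) / D, fun j k => ?_, fun i => ?_, fun i hi j => ?_⟩
  · have h0 : ∑ i, (A k i : ℚ) • v i = 0 := Subtype.ext (by simpa [v, Rat.smul_def] using h k)
    have h1 := congrArg (fun x => b.repr x j) h0
    simp only [map_sum, map_smul, Finsupp.finsetSum_apply, Finsupp.smul_apply, smul_eq_mul, map_zero, Finsupp.zero_apply] at h1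
    have : ((∑ i, A k i * q j i : ℤ) : ℚ) = 0 := by
      push_cast
      simp only [hq, mul_left_comm _ (D : ℚ), ← Finset.mul_sum, h1, mul_zero]
    exact_mod_cast this
  · have h1 : w i = ∑ j, ((b.repr (v i) j : ℚ) : ℝ) * (b j : ℝ) := by
      have := congrArg Subtype.val (b.sum_repr (v i))
      rw [AddSubmonoidClass.coe_finsetSum] at this
      exact this.symm.trans (Finset.sum_congr rfl fun j _ => by simp [Rat.smul_def])
    rw [h1]
    refine Finset.sum_congr rfl fun j _ => ?_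
    have hD' : (D : ℝ) ≠ 0 := by exact_mod_cast hD
    have hz : ((q j i : ℤ) : ℝ) = (D : ℝ) * ((b.repr (v i) j : ℚ) : ℝ) := by exact_mod_cast congrArg (fun r : ℚ => (r : ℝ)) (hq j i)
    rw [hz]; field_simp
  · have hv : v i = 0 := Subtype.ext hi
    have := hq j i
    rw [hv] at this
    simpa using this

theorem real_injective (A : κ → N → ℤ) (hA : ∀ g : N → ℤ, (∀ k, ∑ i, A k i * g i = 0) → g = 0)
    (w : N → ℝ) (h : InKer A w) : w = 0 := by
  obtain ⟨d, q, β, hq, hw, -⟩ := exists_combination A w h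
  funext i
  rw [hw i]
  simp [hA _ (hq _)]

/-- a nonnegative real kernel vector has an integer nonnegative kernel vector of the same support -/
theorem exists_int_vec (A : κ → N → ℤ) (w : N → ℝ) (hw0 : ∀ i, 0 ≤ w i) (h : InKer A w) :
    ∃ u : N → ℤ, (∀ i, 0 ≤ u i) ∧ (∀ k, ∑ i, A k i * u i = 0) ∧ ∀ i, 0 < u i ↔ w i ≠ 0 := by
  obtain ⟨d, q, β, hq, hw, hz⟩ := exists_combination A w h
  let B : N → ℝ := fun i => ∑ j, |(q j i : ℝ)|
  obtain ⟨M, hM⟩ : ∃ M : ℕ, ∀ i, w i ≠ 0 → B i < M * w i := by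
    obtain ⟨M, hM⟩ := exists_nat_gt (∑ i, |B i / w i|)
    refine ⟨M, fun i hi => ?_⟩
    have hp : 0 < w i := lt_of_le_of_ne (hw0 i) (Ne.symm hi)
    have : B i / w i < M :=
      lt_of_le_of_lt ((le_abs_self _).trans (Finset.single_le_sum (f := fun i => |B i / w i|) (fun _ _ => abs_nonneg _) (mem_univ i))) hM
    rwa [div_lt_iff₀ hp] at this
  let u : N → ℤ := fun i => ∑ j, ⌊(M : ℝ) * β j⌋ * q j i
  have hpos : ∀ i, w i ≠ 0 → 0 < u i := fun i hi => by
    have hb : |(u i : ℝ) - M * w i| ≤ B i := by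
      simp only [u, hw i, Finset.mul_sum, Int.cast_sum, Int.cast_mul, ← Finset.sum_sub_distrib]
      refine (Finset.abs_sum_le_sum_abs _ _).trans (Finset.sum_le_sum fun j _ => ?_)
      rw [← mul_assoc, ← sub_mul, abs_mul]
      refine mul_le_of_le_one_left (abs_nonneg _) ?_
      rw [abs_sub_comm, abs_of_nonneg (by linarith [Int.floor_le ((M : ℝ) * β j)])]
      linarith [Int.lt_floor_add_one ((M : ℝ) * β j)]
    have : (0 : ℝ) < u i := by linarith [(abs_le.1 hb).1, hM i hi]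
    exact_mod_cast this
  have hzero : ∀ i, w i = 0 → u i = 0 := fun i hi => by simp [u, hz i hi]
  refine ⟨u, fun i => ?_, fun k => ?_, fun i => ⟨fun hp hi => (hp.ne' (hzero i hi)), hpos i⟩⟩
  · by_cases hi : w i = 0
    · exact (hzero i hi).ge
    · exact (hpos i hi).le
  · simp only [u, Finset.mul_sum]
    rw [Finset.sum_comm]
    refine Finset.sum_eq_zero fun j _ => ?_
    simp only [mul_left_comm _ ⌊(M : ℝ) * β j⌋, ← Finset.mul_sum, hq j k, mul_zero]

/-- simplicial decomposition of a nonnegative real kernel vector -/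
theorem decompose (A : κ → N → ℤ) : ∀ (w : N → ℝ), (∀ i, 0 ≤ w i) → InKer A w →
    ∃ (r : ℕ) (u : Fin r → N → ℤ) (c : Fin r → ℝ), (∀ j i, 0 ≤ u j i) ∧ (∀ j k, ∑ i, A k i * u j i = 0) ∧
      (∀ j, 0 ≤ c j) ∧ (∀ i, w i = ∑ j, c j * u j i) ∧ (∀ j i, w i = 0 → u j i = 0) ∧
      ∀ g : Fin r → ℤ, (∀ i, ∑ j, g j * u j i = 0) → g = 0 := by
  classical
  suffices H : ∀ n (w : N → ℝ), (univ.filter fun i => w i ≠ 0).card ≤ n → (∀ i, 0 ≤ w i) → InKer A w →
      ∃ (r : ℕ) (u : Fin r → N → ℤ) (c : Fin r → ℝ), (∀ j i, 0 ≤ u j i) ∧ (∀ j k, ∑ i, A k i * u j i = 0) ∧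
        (∀ j, 0 ≤ c j) ∧ (∀ i, w i = ∑ j, c j * u j i) ∧ (∀ j i, w i = 0 → u j i = 0) ∧
        ∀ g : Fin r → ℤ, (∀ i, ∑ j, g j * u j i = 0) → g = 0 from fun w => H _ w le_rfl
  intro n
  induction n with
  | zero =>
    intro w hn _ _
    have : ∀ i, w i = 0 := fun i => by
      by_contra hi
      have : 0 < (univ.filter fun i => w i ≠ 0).card := Finset.card_pos.2 ⟨i, mem_filter.2 ⟨mem_univ i, hi⟩⟩
      omega
    exact ⟨0, Fin.elim0, Fin.elim0, fun j => j.elim0, fun j => j.elim0, fun j => j.elim0,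
      fun i => by simp [this i], fun j => j.elim0, fun g _ => funext fun j => j.elim0⟩
  | succ n ih =>
    intro w hn hw0 hw
    by_cases hzero : ∀ i, w i = 0
    · exact ⟨0, Fin.elim0, Fin.elim0, fun j => j.elim0, fun j => j.elim0, fun j => j.elim0,
        fun i => by simp [hzero i], fun j => j.elim0, fun g _ => funext fun j => j.elim0⟩
    push Not at hzero
    obtain ⟨u, hu0, huA, hus⟩ := exists_int_vec A w hw0 hw
    obtain ⟨i₀, hi₀, hmin⟩ := Finset.exists_min_image (univ.filter fun i => w i ≠ 0) (fun i => w i / u i)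
      (let ⟨i, hi⟩ := hzero; ⟨i, mem_filter.2 ⟨mem_univ i, hi⟩⟩)
    rw [mem_filter] at hi₀
    set t := w i₀ / u i₀
    have hu₀ : (0 : ℝ) < u i₀ := by exact_mod_cast (hus i₀).2 hi₀.2
    have ht : 0 ≤ t := div_nonneg (hw0 _) hu₀.le
    let w' : N → ℝ := fun i => w i - t * u i
    have hsupp : ∀ i, w i = 0 → w' i = 0 := fun i hi => by
      have : u i = 0 := le_antisymm (not_lt.1 fun h => (hus i).1 h hi) (hu0 i)
      simp [w', hi, this]
    have hw'0 : ∀ i, 0 ≤ w' i := fun i => by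
      by_cases hi : w i = 0
      · exact (hsupp i hi).ge
      · have hp : (0 : ℝ) < u i := by exact_mod_cast (hus i).2 hi
        have := hmin i (mem_filter.2 ⟨mem_univ i, hi⟩)
        rw [le_div_iff₀ hp] at this
        simp only [w', sub_nonneg]; exact this
    have hw'i : w' i₀ = 0 := by simp only [w', t]; field_simp; ring
    have hw' : InKer A w' := fun k => by
      have : ((∑ i, A k i * u i : ℤ) : ℝ) = 0 := by rw [huA k]; simp
      push_cast at this
      simp only [w', mul_sub, Finset.sum_sub_distrib, hw k, zero_sub, neg_eq_zero, mul_left_comm _ t, ← Finset.mul_sum, this, mul_zero]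
    have hcard : (univ.filter fun i => w' i ≠ 0).card ≤ n := by
      have hlt : (univ.filter fun i => w' i ≠ 0).card < (univ.filter fun i => w i ≠ 0).card := by
        refine Finset.card_lt_card ((Finset.ssubset_iff_of_subset ?_).2 ⟨i₀, mem_filter.2 hi₀, by simp [hw'i]⟩)
        exact fun i hi => mem_filter.2 ⟨mem_univ i, fun h => (mem_filter.1 hi).2 (hsupp i h)⟩
      omega
    obtain ⟨r, v, c, hv0, hvA, hc0, hwv, hvs, hvi⟩ := ih w' hcard hw'0 hw'
    refine ⟨r + 1, Fin.cons u v, Fin.cons t c, Fin.cases (by simpa using hu0) (by simpa using hv0),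
      Fin.cases (by simpa using huA) (by simpa using hvA), Fin.cases (by simpa using ht) (by simpa using hc0),
      fun i => ?_, ?_, fun g hg => ?_⟩
    · simp only [Fin.sum_univ_succ, Fin.cons_zero, Fin.cons_succ, ← hwv i, w']; ring
    · refine Fin.cases (fun i hi => ?_) (fun j i hi => ?_)
      · simpa using le_antisymm (not_lt.1 fun h => (hus i).1 h hi) (hu0 i)
      · simpa using hvs j i (hsupp i hi)
    · simp only [Fin.sum_univ_succ, Fin.cons_zero, Fin.cons_succ] at hg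
      have h0 : g 0 = 0 := by
        have := hg i₀
        simp only [hvs _ i₀ hw'i, mul_zero, Finset.sum_const_zero, add_zero, mul_eq_zero] at this
        exact this.resolve_right (fun h => by rw [h] at hu₀; simp at hu₀)
      have := hvi (fun j => g j.succ) fun i => by simpa [h0] using hg i
      exact funext (Fin.cases h0 fun j => congrFun this j)

/-- the real extension of an integer linear map -/
def rvec {k m : ℕ} (φ : (Fin k → ℤ) →ₗ[ℤ] (Fin m → ℤ)) : (Fin k → ℝ) →ₗ[ℝ] (Fin m → ℝ) where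
  toFun v := fun j => ∑ i, (φ (Pi.single i 1) j : ℝ) * v i
  map_add' v w := funext fun j => by simp [mul_add, Finset.sum_add_distrib]
  map_smul' c v := funext fun j => by simp [Finset.mul_sum, mul_left_comm]

theorem rvec_apply {k m : ℕ} (φ : (Fin k → ℤ) →ₗ[ℤ] (Fin m → ℤ)) (v : Fin k → ℝ) (j : Fin m) :
    rvec φ v j = ∑ i, (φ (Pi.single i 1) j : ℝ) * v i := rfl

theorem apply_eq_sum {k m : ℕ} (φ : (Fin k → ℤ) →ₗ[ℤ] (Fin m → ℤ)) (g : Fin k → ℤ) (j : Fin m) :
    φ g j = ∑ i, φ (Pi.single i 1) j * g i := by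
  conv_lhs => rw [pi_eq_sum_univ' g, map_sum, Finset.sum_apply]
  exact Finset.sum_congr rfl fun i _ => by rw [map_zsmul, Pi.smul_apply, smul_eq_mul, mul_comm]

theorem rvec_intCast {k m : ℕ} (φ : (Fin k → ℤ) →ₗ[ℤ] (Fin m → ℤ)) (g : Fin k → ℤ) :
    rvec φ (fun i => (g i : ℝ)) = fun j => (φ g j : ℝ) := funext fun j => by
  rw [rvec_apply, apply_eq_sum φ g j]; push_cast; rfl

theorem rvec_comp {k l m : ℕ} (φ : (Fin l → ℤ) →ₗ[ℤ] (Fin m → ℤ)) (ψ : (Fin k → ℤ) →ₗ[ℤ] (Fin l → ℤ)) :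
    rvec (φ.comp ψ) = (rvec φ).comp (rvec ψ) := by
  refine LinearMap.ext fun v => funext fun j => ?_
  simp only [LinearMap.comp_apply, rvec_apply]
  conv_lhs => enter [2, i]; rw [apply_eq_sum φ, Int.cast_sum, Finset.sum_mul]
  rw [Finset.sum_comm]
  simp only [Finset.mul_sum, Int.cast_mul, mul_assoc]

theorem rvec_id {k : ℕ} : rvec (LinearMap.id : (Fin k → ℤ) →ₗ[ℤ] (Fin k → ℤ)) = LinearMap.id := by
  refine LinearMap.ext fun v => funext fun j => ?_
  simp [rvec_apply, Pi.single_apply]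

theorem rvec_injective {k m : ℕ} {φ : (Fin k → ℤ) →ₗ[ℤ] (Fin m → ℤ)} (h : Function.Injective φ) :
    Function.Injective (rvec φ) := by
  rw [injective_iff_map_eq_zero]
  intro v hv
  refine real_injective (fun j i => φ (Pi.single i 1) j) (fun g hg => h ?_) v fun j => congrFun hv j
  rw [map_zero]
  exact funext fun j => (apply_eq_sum φ g j).trans (hg j)

theorem rvec_nonneg {k m : ℕ} {φ : (Fin k → ℤ) →ₗ[ℤ] (Fin m → ℤ)} (h : ∀ v, (∀ i, 0 ≤ v i) → ∀ j, 0 ≤ φ v j)
    {v : Fin k → ℝ} (hv : ∀ i, 0 ≤ v i) (j : Fin m) : 0 ≤ rvec φ v j := by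
  rw [rvec_apply]
  refine Finset.sum_nonneg fun i _ => mul_nonneg ?_ (hv i)
  exact_mod_cast h _ (fun i' => by rw [Pi.single_apply]; split_ifs <;> simp) j

/-- a common simplicial sub-cone through a pair of real points with the same image -/
theorem common_refinement {k k' m : ℕ} (φ : (Fin k → ℤ) →ₗ[ℤ] (Fin m → ℤ)) (φ' : (Fin k' → ℤ) →ₗ[ℤ] (Fin m → ℤ))
    (hφ : Function.Injective φ) (hφ' : Function.Injective φ') (v : Fin k → ℝ) (v' : Fin k' → ℝ)
    (hv : ∀ i, 0 ≤ v i) (hv' : ∀ i, 0 ≤ v' i) (hne : v ≠ 0) (h : rvec φ v = rvec φ' v') :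
    ∃ (r : ℕ) (ψ : (Fin r → ℤ) →ₗ[ℤ] (Fin k → ℤ)) (ψ' : (Fin r → ℤ) →ₗ[ℤ] (Fin k' → ℤ)) (z : Fin r → ℝ),
      0 < r ∧ φ.comp ψ = φ'.comp ψ' ∧ Function.Injective ψ ∧ Function.Injective ψ' ∧
      (∀ g, (∀ i, 0 ≤ g i) → ∀ j, 0 ≤ ψ g j) ∧ (∀ g, (∀ i, 0 ≤ g i) → ∀ j, 0 ≤ ψ' g j) ∧
      (∀ i, 0 ≤ z i) ∧ z ≠ 0 ∧ rvec ψ z = v ∧ rvec ψ' z = v' := by
  let A : Fin m → Fin k ⊕ Fin k' → ℤ := fun j => Sum.elim (fun i => φ (Pi.single i 1) j) (fun i => - φ' (Pi.single i 1) j)
  obtain ⟨r, u, c, hu0, huA, hc0, hw, -, hui⟩ := decompose A (Sum.elim v v') (by rintro (i | i) <;> simp [hv, hv']) fun j => by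
    have := congrFun h j
    simp only [rvec_apply] at this
    simp [A, Fintype.sum_sum_type, this]
  let P : (Fin r → ℤ) →ₗ[ℤ] (Fin k → ℤ) := Fintype.linearCombination ℤ fun j i => u j (Sum.inl i)
  let Q : (Fin r → ℤ) →ₗ[ℤ] (Fin k' → ℤ) := Fintype.linearCombination ℤ fun j i => u j (Sum.inr i)
  have hP : ∀ g i, P g i = ∑ j, g j * u j (Sum.inl i) := fun g i => by simp [P, Fintype.linearCombination_apply, Finset.sum_apply]
  have hQ : ∀ g i, Q g i = ∑ j, g j * u j (Sum.inr i) := fun g i => by simp [Q, Fintype.linearCombination_apply, Finset.sum_apply]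
  have hPQ : ∀ g, φ (P g) = φ' (Q g) := fun g => funext fun j => by
    rw [apply_eq_sum φ, apply_eq_sum φ', ← sub_eq_zero]
    simp only [hP, hQ, Finset.mul_sum]
    rw [Finset.sum_comm, Finset.sum_comm (s := univ) (f := fun (i : Fin k') (l : Fin r) => φ' (Pi.single i 1) j * (g l * u l (Sum.inr i))),
      ← Finset.sum_sub_distrib]
    refine Finset.sum_eq_zero fun l _ => ?_
    have := huA l j
    simp only [A, Fintype.sum_sum_type, Sum.elim_inl, Sum.elim_inr, neg_mul, Finset.sum_neg_distrib] at this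
    simp only [mul_left_comm _ (g l), ← Finset.mul_sum, ← mul_sub]
    rw [show ∀ a b : ℤ, a - b = a + -b from sub_eq_add_neg, this, mul_zero]
  have hker : ∀ g, P g = 0 → Q g = 0 → g = 0 := fun g h1 h2 => hui g (by
    rintro (i | i)
    · rw [← hP, h1]; rfl
    · rw [← hQ, h2]; rfl)
  refine ⟨r, P, Q, c, Nat.pos_of_ne_zero ?_, LinearMap.ext hPQ, ?_, ?_, ?_, ?_, hc0, ?_, funext fun i => ?_, funext fun i => ?_⟩
  · rintro rfl
    exact hne (funext fun i => by simpa using hw (Sum.inl i))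
  · rw [injective_iff_map_eq_zero]
    refine fun g hg => hker g hg (hφ' ?_)
    rw [← hPQ, hg, map_zero, map_zero]
  · rw [injective_iff_map_eq_zero]
    refine fun g hg => hker g (hφ ?_) hg
    rw [hPQ, hg, map_zero, map_zero]
  · exact fun g hg i => by rw [hP]; exact Finset.sum_nonneg fun j _ => mul_nonneg (hg j) (hu0 j _)
  · exact fun g hg i => by rw [hQ]; exact Finset.sum_nonneg fun j _ => mul_nonneg (hg j) (hu0 j _)
  · rintro rfl
    exact hne (funext fun i => by simpa using hw (Sum.inl i))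
  · rw [rvec_apply]
    refine Eq.trans ?_ (hw (Sum.inl i)).symm
    refine Finset.sum_congr rfl fun j _ => ?_
    simp [hP, Pi.single_apply, mul_comm]
  · rw [rvec_apply]
    refine Eq.trans ?_ (hw (Sum.inr i)).symm
    refine Finset.sum_congr rfl fun j _ => ?_
    simp [hQ, Pi.single_apply, mul_comm]

end Groth.Agent.InstabFanLib
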