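import Groth.Prelude.Def_W4c6instabfans3Fan
import Groth.Agent.Lib.InstabFan.Rat

/-!
# Points of the projective realization of a formal fan
-/

open CategoryTheory Opposite Limits
open Instab Instab.Fan

namespace Groth.Agent.InstabFanLib

universe u

variable {F G F' : Fan.{u}} {n n₁ n₂ k m : ICone}

theorem realMap_eq (φ : k ⟶ n) (v : Fin k.dim → ℝ) : φ.realMap v = rvec φ.toLin v := rfl

theorem realMap_comp (φ : k ⟶ m) (ψ : m ⟶ n) (v : Fin k.dim → ℝ) :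
    (φ ≫ ψ).realMap v = ψ.realMap (φ.realMap v) :=
  LinearMap.congr_fun (rvec_comp ψ.toLin φ.toLin) v

theorem realMap_id (v : Fin n.dim → ℝ) : (𝟙 n : n ⟶ n).realMap v = v := LinearMap.congr_fun rvec_id v

theorem realMap_smul (φ : k ⟶ n) (c : ℝ) (v : Fin k.dim → ℝ) : φ.realMap (c • v) = c • φ.realMap v :=
  (rvec φ.toLin).map_smul c v

theorem realMap_injective (φ : k ⟶ n) : Function.Injective φ.realMap := rvec_injective φ.injective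

/-- image of an orthant point -/
def push (φ : k ⟶ n) (v : Orth k) : Orth n :=
  ⟨φ.realMap v.1, fun j => rvec_nonneg φ.nonneg v.2.1 j, fun h =>
    v.2.2 (realMap_injective φ (h.trans (rvec φ.toLin).map_zero.symm))⟩

/-- positive rescaling of an orthant point -/
def scale (c : ℝ) (hc : 0 < c) (v : Orth n) : Orth n :=
  ⟨c • v.1, fun i => mul_nonneg hc.le (v.2.1 i), smul_ne_zero hc.ne' v.2.2⟩

theorem Orth.ext' {v w : Orth n} (h : v.1 = w.1) : v = w := Subtype.ext h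

theorem mk_eq_of_rel (φ : k ⟶ n) (ξ : F.obj (op n)) {v : Orth k} {w : Orth n} {c : ℝ} (hc : 0 < c)
    (h : w.1 = c • φ.realMap v.1) : P.mk (F.map φ.op ξ) v = P.mk ξ w :=
  Quot.sound (Rel.glue φ ξ v w c hc h)

theorem mk_scale (ξ : F.obj (op n)) {v w : Orth n} {c : ℝ} (hc : 0 < c) (h : w.1 = c • v.1) : P.mk ξ v = P.mk ξ w := by
  have := mk_eq_of_rel (F := F) (𝟙 n) ξ (v := v) (w := w) hc (by rw [realMap_id]; exact h)
  simpa using this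

theorem mk_map_push (φ : k ⟶ n) (ξ : F.obj (op n)) (v : Orth k) : P.mk (F.map φ.op ξ) v = P.mk ξ (push φ v) :=
  mk_eq_of_rel φ ξ one_pos (one_smul ℝ _).symm

theorem exists_mk (x : P F) : ∃ (n : ICone) (ξ : F.obj (op n)) (v : Orth n), P.mk ξ v = x := by
  induction x using Quot.ind with
  | _ p => exact ⟨p.1.1, p.1.2, p.2, rfl⟩

theorem map_mk (f : F ⟶ G) (ξ : F.obj (op n)) (v : Orth n) : P.map f (P.mk ξ v) = P.mk (f.app _ ξ) v := rfl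

/-- two points lie in a common sub-cone -/
def Meet (σ₁ : F.obj (op n₁)) (v₁ : Orth n₁) (σ₂ : F.obj (op n₂)) (v₂ : Orth n₂) : Prop :=
  ∃ (k : ICone) (φ₁ : k ⟶ n₁) (φ₂ : k ⟶ n₂) (y : Orth k) (c₁ c₂ : ℝ),
    F.map φ₁.op σ₁ = F.map φ₂.op σ₂ ∧ 0 < c₁ ∧ 0 < c₂ ∧
      v₁.1 = c₁ • φ₁.realMap y.1 ∧ v₂.1 = c₂ • φ₂.realMap y.1

theorem Meet.symm {σ₁ : F.obj (op n₁)} {v₁ : Orth n₁} {σ₂ : F.obj (op n₂)} {v₂ : Orth n₂}
    (h : Meet σ₁ v₁ σ₂ v₂) : Meet σ₂ v₂ σ₁ v₁ := by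
  obtain ⟨k, a, b, y, c₁, c₂, e, h1, h2, e1, e2⟩ := h
  exact ⟨k, b, a, y, c₂, c₁, e.symm, h2, h1, e2, e1⟩

theorem exists_refinement {k₁ k₂ : ICone} (φ : k₁ ⟶ n) (φ' : k₂ ⟶ n) (v : Orth k₁) (v' : Orth k₂)
    (h : φ.realMap v.1 = φ'.realMap v'.1) :
    ∃ (m : ICone) (ψ : m ⟶ k₁) (ψ' : m ⟶ k₂) (z : Orth m),
      ψ ≫ φ = ψ' ≫ φ' ∧ ψ.realMap z.1 = v.1 ∧ ψ'.realMap z.1 = v'.1 := by
  obtain ⟨r, ψ, ψ', z, hr, hc, hi, hi', hn, hn', hz, hz0, e, e'⟩ :=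
    common_refinement φ.toLin φ'.toLin φ.injective φ'.injective v.1 v'.1 v.2.1 v'.2.1 v.2.2 h
  exact ⟨⟨⟨r, hr⟩⟩, ⟨ψ, hi, hn⟩, ⟨ψ', hi', hn'⟩, ⟨z, hz, hz0⟩, ICone.Hom.ext hc, e, e'⟩

theorem Meet.trans {n₃ : ICone} {σ₁ : F.obj (op n₁)} {v₁ : Orth n₁} {σ₂ : F.obj (op n₂)} {v₂ : Orth n₂}
    {σ₃ : F.obj (op n₃)} {v₃ : Orth n₃}
    (h : Meet σ₁ v₁ σ₂ v₂) (h' : Meet σ₂ v₂ σ₃ v₃) : Meet σ₁ v₁ σ₃ v₃ := by
  obtain ⟨k, a, b, y, c₁, c₂, e, h1, h2, e1, e2⟩ := h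
  obtain ⟨k', a', b', y', d₁, d₂, e', h1', h2', e1', e2'⟩ := h'
  have hs : b.realMap y.1 = a'.realMap (scale (d₁ / c₂) (div_pos h1' h2) y').1 := by
    show _ = a'.realMap ((d₁ / c₂) • y'.1)
    rw [realMap_smul, div_eq_inv_mul, ← smul_smul, ← e1', e2, inv_smul_smul₀ h2.ne']
  obtain ⟨m, ψ, ψ', z, hc, ez, ez'⟩ := exists_refinement b a' y _ hs
  refine ⟨m, ψ ≫ a, ψ' ≫ b', z, c₁, d₂ * (c₂ / d₁), ?_, h1, mul_pos h2' (div_pos h2 h1'), ?_, ?_⟩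
  · have := congrArg (fun χ : m ⟶ n₂ => F.map χ.op σ₂) hc
    simp only [op_comp, FunctorToTypes.map_comp_apply] at this ⊢
    rw [e, this, e']
  · rw [realMap_comp, ez, e1]
  · rw [realMap_comp, ez']
    show v₃.1 = _ • b'.realMap ((d₁ / c₂) • y'.1)
    rw [realMap_smul, smul_smul, e2']
    congr 1
    field_simp

theorem Meet.mk_eq {σ₁ : F.obj (op n₁)} {v₁ : Orth n₁} {σ₂ : F.obj (op n₂)} {v₂ : Orth n₂}
    (h : Meet σ₁ v₁ σ₂ v₂) : P.mk σ₁ v₁ = P.mk σ₂ v₂ := by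
  obtain ⟨k, a, b, y, c₁, c₂, e, h1, h2, e1, e2⟩ := h
  rw [← mk_eq_of_rel a σ₁ (v := y) h1 e1, ← mk_eq_of_rel b σ₂ (v := y) h2 e2, e]

theorem mk_eq_mk_iff {σ₁ : F.obj (op n₁)} {v₁ : Orth n₁} {σ₂ : F.obj (op n₂)} {v₂ : Orth n₂} :
    P.mk σ₁ v₁ = P.mk σ₂ v₂ ↔ Meet σ₁ v₁ σ₂ v₂ := by
  refine ⟨fun h => ?_, Meet.mk_eq⟩
  have hrefl : ∀ p : Pt F, Meet p.1.2 p.2 p.1.2 p.2 := fun p =>
    ⟨p.1.1, 𝟙 _, 𝟙 _, p.2, 1, 1, rfl, one_pos, one_pos, by rw [realMap_id, one_smul], by rw [realMap_id, one_smul]⟩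
  suffices ∀ p q : Pt F, Relation.EqvGen (Rel F) p q → Meet p.1.2 p.2 q.1.2 q.2 from
    this ⟨⟨n₁, σ₁⟩, v₁⟩ ⟨⟨n₂, σ₂⟩, v₂⟩ (Quot.eqvGen_exact h)
  intro p q hpq
  induction hpq with
  | rel p q hr =>
    obtain ⟨φ, ξ, v, w, c, hc, hw⟩ := hr
    exact ⟨_, 𝟙 _, φ, v, 1, c, by simp, one_pos, hc, by rw [realMap_id, one_smul], hw⟩
  | refl p => exact hrefl p
  | symm p q _ ih => exact ih.symm
  | trans p q r _ _ ih ih' => exact ih.trans ih'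

theorem map_injective (f : F ⟶ G) (hf : ∀ n : ICone, Function.Injective (f.app (op n))) :
    Function.Injective (P.map f) := by
  intro x y h
  obtain ⟨n₁, σ₁, v₁, rfl⟩ := exists_mk x
  obtain ⟨n₂, σ₂, v₂, rfl⟩ := exists_mk y
  obtain ⟨k, a, b, z, c₁, c₂, e, h1, h2, e1, e2⟩ := mk_eq_mk_iff.1 h
  refine Meet.mk_eq ⟨k, a, b, z, c₁, c₂, hf k ?_, h1, h2, e1, e2⟩
  rw [NatTrans.naturality_apply, NatTrans.naturality_apply]
  exact e

theorem map_surjective (f : F ⟶ G) (hf : ∀ n : ICone, Function.Surjective (f.app (op n))) :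
    Function.Surjective (P.map f) := by
  intro y
  obtain ⟨n, σ, v, rfl⟩ := exists_mk y
  obtain ⟨τ, rfl⟩ := hf n σ
  exact ⟨P.mk τ v, rfl⟩

theorem coneMap_app_id (σ : F.obj (op n)) : (coneMap σ).app _ (ULift.up (𝟙 n)) = σ := by
  simp [coneMap, uliftYonedaEquiv]

theorem coneMap_app (σ : F.obj (op n)) (φ : k ⟶ n) : (coneMap σ).app _ (ULift.up φ) = F.map φ.op σ := by
  simp [coneMap, uliftYonedaEquiv]

theorem uliftYonedaEquiv_coneMap (σ : F.obj (op n)) : uliftYonedaEquiv (coneMap σ) = σ :=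
  Equiv.apply_symm_apply _ _

theorem coneMap_comp (σ : F.obj (op n)) (f : F ⟶ G) : coneMap σ ≫ f = coneMap (f.app _ σ) := by
  apply uliftYonedaEquiv.injective
  rw [uliftYonedaEquiv_comp, uliftYonedaEquiv_coneMap, uliftYonedaEquiv_coneMap]

theorem pullback_elem {f : F ⟶ G} {g : F' ⟶ G} (s : F.obj (op n)) (s' : F'.obj (op n))
    (h : f.app _ s = g.app _ s') :
    ∃ z : (pullback f g).obj (op n), (pullback.fst f g).app _ z = s ∧ (pullback.snd f g).app _ z = s' := by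
  have hc : coneMap s ≫ f = coneMap s' ≫ g := by rw [coneMap_comp, coneMap_comp, h]
  refine ⟨uliftYonedaEquiv (pullback.lift _ _ hc), ?_, ?_⟩
  · rw [← uliftYonedaEquiv_comp, pullback.lift_fst, uliftYonedaEquiv_coneMap]
  · rw [← uliftYonedaEquiv_comp, pullback.lift_snd, uliftYonedaEquiv_coneMap]

theorem pullback_cond {f : F ⟶ G} {g : F' ⟶ G} (z : (pullback f g).obj (op n)) :
    f.app _ ((pullback.fst f g).app _ z) = g.app _ ((pullback.snd f g).app _ z) := by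
  have := ConcreteCategory.congr_hom (congrArg (fun (t : pullback f g ⟶ G) => t.app (op n)) (pullback.condition (f := f) (g := g))) z
  simpa using this

theorem exists_pullback_point (f : F ⟶ G) (g : F' ⟶ G) (x : P F) (x' : P F') (h : P.map f x = P.map g x') :
    ∃ y : P (pullback f g), P.map (pullback.fst f g) y = x ∧ P.map (pullback.snd f g) y = x' := by
  obtain ⟨n₁, σ₁, v₁, rfl⟩ := exists_mk x
  obtain ⟨n₂, σ₂, v₂, rfl⟩ := exists_mk x'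
  obtain ⟨k, a, b, z, c₁, c₂, e, h1, h2, e1, e2⟩ := mk_eq_mk_iff.1 h
  obtain ⟨w, hw1, hw2⟩ := pullback_elem (f := f) (g := g) (F.map a.op σ₁) (F'.map b.op σ₂) (by
    rw [NatTrans.naturality_apply, NatTrans.naturality_apply]; exact e)
  refine ⟨P.mk w z, ?_, ?_⟩
  · rw [map_mk, hw1]; exact mk_eq_of_rel a σ₁ h1 e1
  · rw [map_mk, hw2]; exact mk_eq_of_rel b σ₂ h2 e2

theorem mem_range_ι (S : Subfunctor F) (x : P F) :
    x ∈ Set.range (P.map S.ι) ↔ ∃ (n : ICone) (σ : F.obj (op n)) (v : Orth n), σ ∈ S.obj (op n) ∧ P.mk σ v = x := by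
  constructor
  · rintro ⟨y, rfl⟩
    obtain ⟨n, σ, v, rfl⟩ := exists_mk y
    exact ⟨n, σ.1, v, σ.2, rfl⟩
  · rintro ⟨n, σ, v, hσ, rfl⟩
    exact ⟨P.mk (F := S.toFunctor) ⟨σ, hσ⟩ v, rfl⟩

theorem range_map_eq (f : F ⟶ G) : Set.range (P.map f) = Set.range (P.map (Subfunctor.range f).ι) := by
  ext x
  rw [mem_range_ι]
  constructor
  · rintro ⟨y, rfl⟩
    obtain ⟨n, σ, v, rfl⟩ := exists_mk y
    exact ⟨n, f.app _ σ, v, ⟨σ, rfl⟩, rfl⟩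
  · rintro ⟨n, σ, v, ⟨τ, rfl⟩, rfl⟩
    exact ⟨P.mk τ v, rfl⟩

theorem range_map_pullback_snd (f : F ⟶ G) (g : F' ⟶ G) :
    Set.range (P.map (pullback.snd f g)) = P.map g ⁻¹' Set.range (P.map f) := by
  ext x'
  constructor
  · rintro ⟨y, rfl⟩
    obtain ⟨n, z, v, rfl⟩ := exists_mk y
    exact ⟨P.mk ((pullback.fst f g).app _ z) v, congrArg (P.mk · v) (pullback_cond z)⟩
  · rintro ⟨x, hx⟩
    obtain ⟨y, -, hy⟩ := exists_pullback_point f g x x' hx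
    exact ⟨y, hy⟩

theorem realizable_inter {U V : Set (P F)} (hU : IsRealizable U) (hV : IsRealizable V) : IsRealizable (U ∩ V) := by
  obtain ⟨S, rfl⟩ := hU
  obtain ⟨T, rfl⟩ := hV
  refine ⟨S ⊓ T, Set.ext fun x => ?_⟩
  simp only [Set.mem_inter_iff, mem_range_ι]
  constructor
  · rintro ⟨⟨n₁, σ₁, v₁, h₁, rfl⟩, n₂, σ₂, v₂, h₂, h⟩
    obtain ⟨k, a, b, z, c₁, c₂, e, hc1, hc2, e1, e2⟩ := mk_eq_mk_iff.1 h.symm
    exact ⟨k, F.map a.op σ₁, z, ⟨S.map a.op h₁, by rw [e]; exact T.map b.op h₂⟩, mk_eq_of_rel a σ₁ hc1 e1⟩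
  · rintro ⟨n, σ, v, hσ, rfl⟩
    exact ⟨⟨n, σ, v, hσ.1, rfl⟩, n, σ, v, hσ.2, rfl⟩

theorem realizable_iUnion {ι : Type u} {U : ι → Set (P F)} (hU : ∀ i, IsRealizable (U i)) :
    IsRealizable (Set.iUnion U) := by
  choose S hS using hU
  refine ⟨⨆ i, S i, Set.ext fun x => ?_⟩
  simp only [Set.mem_iUnion, hS, mem_range_ι, Subfunctor.iSup_obj]
  constructor
  · rintro ⟨i, n, σ, v, hσ, hx⟩; exact ⟨n, σ, v, ⟨i, hσ⟩, hx⟩
  · rintro ⟨n, σ, v, ⟨i, hσ⟩, hx⟩; exact ⟨i, n, σ, v, hσ, hx⟩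

/-- the tautological cone of a representable fan -/
def yid (n : ICone) : (uliftYoneda.{u}.obj n).obj (op n) := ULift.up (𝟙 n)

/-- a cone of a representable fan -/
def yel (φ : k ⟶ n) : (uliftYoneda.{u}.obj n).obj (op k) := ULift.up φ

theorem yel_eq (φ : k ⟶ n) : (uliftYoneda.{u}.obj n).map φ.op (yid n) = yel φ :=
  congrArg ULift.up (Category.comp_id φ)

/-- a cone of the representable fan as a point -/
theorem yoneda_point {n : ICone} (x : P (uliftYoneda.{u}.obj n)) :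
    ∃ v : Orth n, x = P.mk (F := uliftYoneda.{u}.obj n) (ULift.up (𝟙 n)) v := by
  obtain ⟨k, ⟨φ⟩, w, rfl⟩ := exists_mk x
  refine ⟨push φ w, ?_⟩
  refine Eq.trans ?_ (mk_map_push φ (yid n) w)
  rw [yel_eq]; rfl

theorem yoneda_bounded (n : ICone) : IsBounded (uliftYoneda.{u}.obj n) :=
  ⟨{⟨n, ULift.up (𝟙 n)⟩}, fun x => ⟨_, Finset.mem_singleton_self _, let ⟨v, hv⟩ := yoneda_point x; ⟨v, hv.symm⟩⟩⟩

theorem yoneda_mk_inj {φ : k ⟶ n} {w : Orth k} {v : Orth n}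
    (h : P.mk (F := uliftYoneda.{u}.obj n) (ULift.up φ) w = P.mk (F := uliftYoneda.{u}.obj n) (ULift.up (𝟙 n)) v) :
    ∃ c : ℝ, 0 < c ∧ v.1 = c • φ.realMap w.1 := by
  obtain ⟨m, a, b, y, c₁, c₂, e, h1, h2, e1, e2⟩ := mk_eq_mk_iff.1 h
  have : a ≫ φ = b := by
    have e' : ULift.up (a ≫ φ) = ULift.up (b ≫ 𝟙 n) := e
    simpa using congrArg ULift.down e'
  refine ⟨c₂ / c₁, div_pos h2 h1, ?_⟩
  rw [e1, realMap_smul, smul_smul, div_mul_cancel₀ _ h1.ne', ← realMap_comp, this]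
  exact e2

theorem isQuasiSeparated_iff (G : Fan.{u}) :
    G.IsQuasiSeparated ↔ ∀ (F : Fan.{u}) (f : F ⟶ G), F.IsBounded → IsBoundedMap f := by
  classical
  refine ⟨fun hG F f ⟨s, hs⟩ n σ => ?_, fun h n₀ n₁ σ₀ σ₁ => h _ (coneMap σ₀) (yoneda_bounded n₀) n₁ σ₁⟩
  choose t ht using fun e : (Σ k : ICone, F.obj (op k)) => hG e.1 n (f.app _ e.2) σ
  let hmap : ∀ e : (Σ k : ICone, F.obj (op k)), pullback (coneMap (f.app _ e.2)) (coneMap σ) ⟶ pullback f (coneMap σ) :=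
    fun e => pullback.lift (pullback.fst _ _ ≫ coneMap e.2) (pullback.snd _ _)
      (by rw [Category.assoc, coneMap_comp, pullback.condition])
  refine ⟨s.biUnion fun e => (t e).image fun c => ⟨c.1, (hmap e).app _ c.2⟩, fun x => ?_⟩
  obtain ⟨e, he, w, hw⟩ := hs (P.map (pullback.fst f (coneMap σ)) x)
  have hpt : P.map (coneMap e.2) (P.mk (F := uliftYoneda.{u}.obj e.1) (ULift.up (𝟙 e.1)) w) =
      P.map (pullback.fst f (coneMap σ)) x := by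
    show P.mk ((coneMap e.2).app _ (ULift.up (𝟙 e.1))) w = _
    exact (congrArg (P.mk · w) (coneMap_app_id e.2)).trans hw
  obtain ⟨y, -, hy⟩ := exists_pullback_point _ _ _ _ hpt
  let χ : pullback (coneMap e.2) (pullback.fst f (coneMap σ)) ⟶ pullback (coneMap (f.app _ e.2)) (coneMap σ) :=
    pullback.lift (pullback.fst _ _) (pullback.snd _ _ ≫ pullback.snd _ _)
      (by rw [← coneMap_comp, pullback.condition_assoc, Category.assoc, pullback.condition])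
  have hχ : χ ≫ hmap e = pullback.snd _ _ := by
    apply pullback.hom_ext
    · simp only [χ, hmap, Category.assoc]
      erw [pullback.lift_fst]
      erw [pullback.lift_fst_assoc]
      exact pullback.condition
    · simp only [χ, hmap, Category.assoc]
      erw [pullback.lift_snd]
      erw [pullback.lift_snd]
  obtain ⟨c, hc, z, hz⟩ := ht e (P.map χ y)
  refine ⟨⟨c.1, (hmap e).app _ c.2⟩, Finset.mem_biUnion.2 ⟨e, he, Finset.mem_image_of_mem _ hc⟩, z, ?_⟩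
  rw [← map_mk, hz, ← hy, ← hχ]
  obtain ⟨l, τ, v, rfl⟩ := exists_mk y
  rfl

theorem locallyConvex_iff (U : Set (P F)) (isLC : Prop)
    (hdef : isLC ↔ ∀ (n : ICone) (ξ : F.obj (op n)) (v₀ v₁ v₂ : Orth n), P.mk ξ v₀ ∈ U → P.mk ξ v₂ ∈ U →
      (∃ a b : ℝ, 0 < a ∧ 0 < b ∧ v₁.1 = a • v₀.1 + b • v₂.1) → P.mk ξ v₁ ∈ U) :
    isLC ↔ ∀ (n : ICone) (ξ : F.obj (op n)),
        Convex ℝ {v : Fin n.dim → ℝ | ∃ h : (∀ i, 0 ≤ v i) ∧ v ≠ 0, P.mk ξ (⟨v, h⟩ : Orth n) ∈ U} := by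
  rw [hdef]
  constructor
  · intro h n ξ
    rw [convex_iff_forall_pos]
    rintro x ⟨hx, hxU⟩ y ⟨hy, hyU⟩ a b ha hb -
    have hnn : ∀ i, 0 ≤ (a • x + b • y) i := fun i => add_nonneg (mul_nonneg ha.le (hx.1 i)) (mul_nonneg hb.le (hy.1 i))
    have hne : a • x + b • y ≠ 0 := fun h0 => hx.2 (funext fun i => by
      have := congrFun h0 i
      simp only [Pi.add_apply, Pi.smul_apply, smul_eq_mul, Pi.zero_apply] at this
      have h1 := mul_nonneg ha.le (hx.1 i); have h2 := mul_nonneg hb.le (hy.1 i)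
      exact (mul_eq_zero.1 (by linarith : a * x i = 0)).resolve_left ha.ne')
    exact ⟨⟨hnn, hne⟩, h n ξ ⟨x, hx⟩ ⟨_, hnn, hne⟩ ⟨y, hy⟩ hxU hyU ⟨a, b, ha, hb, rfl⟩⟩
  · rintro h n ξ v₀ v₁ v₂ h₀ h₂ ⟨a, b, ha, hb, e⟩
    have hab : 0 < a + b := add_pos ha hb
    obtain ⟨hx, hxU⟩ := h n ξ ⟨v₀.2, h₀⟩ ⟨v₂.2, h₂⟩ (div_nonneg ha.le hab.le) (div_nonneg hb.le hab.le)
      (by rw [← add_div, div_self hab.ne'])
    rw [← mk_scale ξ hab (v := ⟨_, hx⟩) (w := v₁) ?_]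
    · exact hxU
    · show v₁.1 = (a + b) • ((a / (a + b)) • v₀.1 + (b / (a + b)) • v₂.1)
      rw [e, smul_add, smul_smul, smul_smul, mul_div_cancel₀ _ hab.ne', mul_div_cancel₀ _ hab.ne']

end Groth.Agent.InstabFanLib
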