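import Groth.Agent.Lib.InstabFan.Top
import Groth.Prelude.Def_W4c6instabfans3FanCvx

/-!
# Quasi-concave functions on convex subsets of fan realizations
-/

open CategoryTheory Opposite Limits Topology Filter
open Instab Instab.Fan

namespace Groth.Agent.InstabFanLib

universe u v

variable {F : Fan.{u}} {n : ICone}

theorem two_cases (j : Fin (Fan.two.dim : ℕ)) : j = ⟨0, Fan.two.dim.pos⟩ ∨ j = ⟨1, Nat.one_lt_two⟩ := by
  rcases j with ⟨_ | _ | j, hj⟩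
  · exact Or.inl rfl
  · exact Or.inr rfl
  · exact absurd (show j + 2 < 2 from hj) (by omega)

theorem basis_zero_apply : (Orth.basis Fan.two 0).1 ⟨0, Fan.two.dim.pos⟩ = 1 ∧ (Orth.basis Fan.two 0).1 ⟨1, Nat.one_lt_two⟩ = 0 := by
  refine ⟨?_, ?_⟩
  · show (if (⟨0, Fan.two.dim.pos⟩ : Fin (Fan.two.dim : ℕ)) = (0 : Fin (Fan.two.dim : ℕ)) then (1 : ℝ) else 0) = 1
    exact if_pos (Fin.ext rfl)
  · show (if (⟨1, Nat.one_lt_two⟩ : Fin (Fan.two.dim : ℕ)) = (0 : Fin (Fan.two.dim : ℕ)) then (1 : ℝ) else 0) = 0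
    exact if_neg fun h => absurd (show (1 : ℕ) = 0 from congrArg Fin.val h) (by decide)

theorem basis_one_apply : (Orth.basis Fan.two 1).1 ⟨0, Fan.two.dim.pos⟩ = 0 ∧ (Orth.basis Fan.two 1).1 ⟨1, Nat.one_lt_two⟩ = 1 := by
  refine ⟨?_, ?_⟩
  · show (if (⟨0, Fan.two.dim.pos⟩ : Fin (Fan.two.dim : ℕ)) = (1 : Fin (Fan.two.dim : ℕ)) then (1 : ℝ) else 0) = 0
    exact if_neg fun h => absurd (show (0 : ℕ) = 1 from congrArg Fin.val h) (by decide)
  · show (if (⟨1, Nat.one_lt_two⟩ : Fin (Fan.two.dim : ℕ)) = (1 : Fin (Fan.two.dim : ℕ)) then (1 : ℝ) else 0) = 1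
    exact if_pos (Fin.ext rfl)

/-- the point `(1 - t, t)` of the standard segment -/
noncomputable def seg (t : Set.Icc (0 : ℝ) 1) : Orth Fan.two :=
  ⟨fun j => if (j : ℕ) = 0 then 1 - (t : ℝ) else (t : ℝ), fun j => by
    rcases two_cases j with rfl | rfl <;> simp [t.2.1, t.2.2], fun h => by
    have h0 : 1 - (t : ℝ) = 0 := congrFun h ⟨0, Fan.two.dim.pos⟩
    have h1 : (t : ℝ) = 0 := congrFun h ⟨1, Nat.one_lt_two⟩
    linarith⟩

theorem seg_apply (t : Set.Icc (0 : ℝ) 1) :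
    (seg t).1 ⟨0, Fan.two.dim.pos⟩ = 1 - (t : ℝ) ∧ (seg t).1 ⟨1, Nat.one_lt_two⟩ = (t : ℝ) := ⟨rfl, rfl⟩

theorem continuous_seg : Continuous seg := Continuous.subtype_mk
  (continuous_pi fun j => by rcases two_cases j with rfl | rfl <;> simp <;> fun_prop) _

theorem seg_zero : seg ⟨0, le_rfl, zero_le_one⟩ = Orth.basis Fan.two 0 := Subtype.ext (funext fun j => by
  rcases two_cases j with rfl | rfl
  · rw [(seg_apply _).1, basis_zero_apply.1]; norm_num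
  · rw [(seg_apply _).2, basis_zero_apply.2])

theorem seg_one : seg ⟨1, zero_le_one, le_rfl⟩ = Orth.basis Fan.two 1 := Subtype.ext (funext fun j => by
  rcases two_cases j with rfl | rfl
  · rw [(seg_apply _).1, basis_one_apply.1]; norm_num
  · rw [(seg_apply _).2, basis_one_apply.2])

theorem seg_mid (t : Set.Icc (0 : ℝ) 1) :
    (seg t).1 = (1 - (t : ℝ)) • (Orth.basis Fan.two 0).1 + (t : ℝ) • (Orth.basis Fan.two 1).1 := funext fun j => by
  simp only [Pi.add_apply, Pi.smul_apply, smul_eq_mul]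
  rcases two_cases j with rfl | rfl
  · rw [(seg_apply _).1, basis_one_apply.1, basis_zero_apply.1]; ring
  · rw [(seg_apply _).2, basis_one_apply.2, basis_zero_apply.2]; ring

theorem basis_indep : ¬ ∃ c : ℝ, (Orth.basis Fan.two 1).1 = c • (Orth.basis Fan.two 0).1 := by
  rintro ⟨c, hc⟩
  have := congrFun hc ⟨1, Nat.one_lt_two⟩
  rw [Pi.smul_apply, basis_one_apply.2, basis_zero_apply.2, smul_zero] at this
  exact one_ne_zero this

theorem mem_of_cell {U : Set (P F)} {S : Subfunctor F} (hS : U = Set.range (P.map S.ι)) {y : P F} (hy : y ∈ U) :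
    ∃ (n : ICone) (ξ : F.obj (op n)) (v : Orth n), P.mk ξ v = y ∧ ∀ w, P.mk ξ w ∈ U := by
  subst hS
  obtain ⟨n, ξ, v, hξ, hv⟩ := (mem_range_ι S y).1 hy
  exact ⟨n, ξ, v, hv, fun w => (mem_range_ι S _).2 ⟨n, ξ, w, hξ, rfl⟩⟩

theorem qc_local_max (U : Set (P F)) (hU : IsConvex U) {Γ : Type v} [LinearOrder Γ] (Φ : U → Γ)
    (hΦ : IsQuasiConcaveOn U Φ) (hlsc : ∀ c : Γ, IsClosed {x : U | Φ x ≤ c}) :
    (∀ x : U, (x : P F).IsRational → IsLocalMax Φ x → ∀ y : U, Φ y ≤ Φ x) ∧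
    (IsStrictQuasiConcaveOn U Φ → ∀ x y : U, (x : P F).IsRational → (y : P F).IsRational →
      IsLocalMax Φ x → IsLocalMax Φ y → x = y) := by
  obtain ⟨-, ⟨S, hS⟩, hrat⟩ := hU
  have key : ∀ x : U, (x : P F).IsRational → IsLocalMax Φ x → ∀ y : U, Φ y ≤ Φ x := by
    intro x hx hmax y
    by_contra hlt
    obtain ⟨n, ξ, v, hv, hcell⟩ := mem_of_cell hS y.2
    let ι : Orth n → U := fun w => ⟨P.mk ξ w, hcell w⟩
    have hι : Continuous ι := (continuous_mk ξ).subtype_mk _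
    have hO : IsOpen (ι ⁻¹' {z : U | Φ z ≤ Φ x}ᶜ) := (hlsc _).isOpen_compl.preimage hι
    obtain ⟨w, hw, g, hg, hg0, hc⟩ := rational_dense (v := v) hO (by
      show ¬ Φ (ι v) ≤ Φ x
      rwa [show ι v = y from Subtype.ext hv])
    have hw' : Φ x < Φ (ι w) := not_le.1 hw
    have hne : (x : P F) ≠ (ι w : P F) := fun e => hw'.ne (congrArg Φ (Subtype.ext e))
    obtain ⟨τ, hτ, hτ0, hτ1⟩ := hrat _ _ x.2 (ι w).2 hx (exists_ray ξ g hg hg0 w hc) hne
    let g : Set.Icc (0 : ℝ) 1 → U := fun t => ⟨P.mk τ (seg t), hτ ⟨_, rfl⟩⟩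
    have hg : Continuous g := ((continuous_mk τ).comp continuous_seg).subtype_mk _
    have hg0 : g ⟨0, le_rfl, zero_le_one⟩ = x := Subtype.ext (by show P.mk τ (seg _) = _; rw [seg_zero, hτ0])
    have hev : ∀ᶠ t in 𝓝 (⟨0, le_rfl, zero_le_one⟩ : Set.Icc (0 : ℝ) 1), Φ (g t) ≤ Φ x :=
      (hg.tendsto' _ _ hg0).eventually hmax
    let s : ℕ → Set.Icc (0 : ℝ) 1 := fun k => ⟨1 / ((k : ℝ) + 2), by positivity, by
      rw [div_le_one (by positivity)]; linarith [(Nat.cast_nonneg k : (0 : ℝ) ≤ k)]⟩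
    have hs : Tendsto s atTop (𝓝 ⟨0, le_rfl, zero_le_one⟩) := by
      rw [tendsto_subtype_rng]
      exact tendsto_const_nhds.div_atTop (tendsto_natCast_atTop_atTop.atTop_add tendsto_const_nhds)
    obtain ⟨k, hk⟩ := (hs.eventually hev).exists
    have ht0 : (0 : ℝ) < (s k : ℝ) := by show (0 : ℝ) < 1 / ((k : ℝ) + 2); positivity
    have ht1 : (s k : ℝ) < 1 := by
      show 1 / ((k : ℝ) + 2) < 1
      rw [div_lt_one (by positivity)]; linarith [(Nat.cast_nonneg k : (0 : ℝ) ≤ k)]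
    obtain ⟨h1, h2⟩ := hΦ Fan.two τ (Orth.basis _ 0) (seg (s k)) (Orth.basis _ 1) (hτ ⟨_, rfl⟩) (hτ ⟨_, rfl⟩)
      (hτ ⟨_, rfl⟩) basis_indep ⟨1 - (s k : ℝ), (s k : ℝ), by linarith, ht0, seg_mid _⟩
    rw [show (⟨P.mk τ (Orth.basis _ 0), hτ ⟨_, rfl⟩⟩ : U) = x from Subtype.ext hτ0,
      show (⟨P.mk τ (Orth.basis _ 1), hτ ⟨_, rfl⟩⟩ : U) = ι w from Subtype.ext hτ1, min_eq_left hw'.le] at h1 h2
    exact hw'.ne (h2 (le_antisymm hk h1))
  refine ⟨key, fun hst x y hx hy hmx hmy => ?_⟩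
  by_contra hne
  have he : Φ x = Φ y := le_antisymm (key y hy hmy x) (key x hx hmx y)
  obtain ⟨τ, hτ, hτ0, hτ1⟩ := hrat _ _ x.2 y.2 hx hy (fun e => hne (Subtype.ext e))
  let t : Set.Icc (0 : ℝ) 1 := ⟨1 / 2, by norm_num, by norm_num⟩
  have h := hst Fan.two τ (Orth.basis _ 0) (seg t) (Orth.basis _ 1) (hτ ⟨_, rfl⟩) (hτ ⟨_, rfl⟩)
    (hτ ⟨_, rfl⟩) basis_indep ⟨1 - (t : ℝ), (t : ℝ), by norm_num [t], by norm_num [t], seg_mid _⟩
  rw [show (⟨P.mk τ (Orth.basis _ 0), hτ ⟨_, rfl⟩⟩ : U) = x from Subtype.ext hτ0,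
    show (⟨P.mk τ (Orth.basis _ 1), hτ ⟨_, rfl⟩⟩ : U) = y from Subtype.ext hτ1, ← he, min_self] at h
  exact (key x hx hmx _).not_gt h

theorem strict_qc_unique [T2Space (P F)] (U : Set (P F)) (hUc : IsCompact U) (hU : IsConvex U)
    {Γ : Type v} [LinearOrder Γ] [TopologicalSpace Γ] [OrderTopology Γ] (Φ : U → Γ) (hΦc : Continuous Φ)
    (hΦ : IsStrictQuasiConcaveOn U Φ) (x y : U) (hx : IsLocalMax Φ x) (hy : IsLocalMax Φ y) : x = y := by
  haveI : CompactSpace U := isCompact_iff_compactSpace.1 hUc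
  obtain ⟨hlc, ⟨S, hS⟩, hrat⟩ := hU
  wlog hle : Φ x ≤ Φ y generalizing x y
  · exact (this y x hy hx (le_of_not_ge hle)).symm
  by_contra hne
  have approx : ∀ p : U, ∃ q : ℕ → U, Tendsto q atTop (𝓝 p) ∧ ∀ j, (q j : P F).IsRational := fun p => by
    obtain ⟨n, ξ, v, hv, hcell⟩ := mem_of_cell hS p.2
    have hO : ∀ j : ℕ, IsOpen {w : Orth n | dist w.1 v.1 < 1 / ((j : ℝ) + 1)} := fun j =>
      isOpen_lt (continuous_val.dist continuous_const) continuous_const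
    choose w hw g hg hg0 hc using fun j => rational_dense (v := v) (hO j) (by simp only [Set.mem_setOf_eq, dist_self]; positivity)
    refine ⟨fun j => ⟨P.mk ξ (w j), hcell _⟩, ?_, fun j => exists_ray ξ (g j) (hg j) (hg0 j) (w j) (hc j)⟩
    have hlim : Tendsto w atTop (𝓝 v) := tendsto_subtype_rng.2 (tendsto_iff_dist_tendsto_zero.2
      (squeeze_zero (fun _ => dist_nonneg) (fun j => (hw j).le) tendsto_one_div_add_atTop_nhds_zero_nat))
    exact ((((continuous_mk ξ).subtype_mk hcell).tendsto v).comp hlim).congr' (Eventually.of_forall fun j => rfl)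
      |>.trans (le_of_eq (congrArg 𝓝 (Subtype.ext hv)))
  obtain ⟨qx, hqx, hqxr⟩ := approx x
  obtain ⟨qy, hqy, hqyr⟩ := approx y
  -- plateau points on the boundary of small closed neighbourhoods
  have cross : ∀ K : Set U, IsClosed K → K ∈ 𝓝 x → (∀ z ∈ K, Φ z ≤ Φ x) → y ∉ K →
      ∃ z ∈ K, z ∉ interior K ∧ Φ z = Φ x := by
    intro K hKc hKx hKle hyK
    obtain ⟨J, hJ⟩ := eventually_atTop.1 ((hqx.eventually (interior_mem_nhds.2 hKx)).and
      (hqy.eventually (hKc.isOpen_compl.mem_nhds hyK)))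
    have hz : ∀ j : ℕ, ∃ z ∈ K \ interior K, min (Φ (qx (j + J))) (Φ (qy (j + J))) ≤ Φ z := by
      intro j
      obtain ⟨hin, hout⟩ : qx (j + J) ∈ interior K ∧ qy (j + J) ∈ Kᶜ := hJ (j + J) (by omega)
      obtain ⟨τ, hτ, hτ0, hτ1⟩ := hrat _ _ (qx (j + J)).2 (qy (j + J)).2 (hqxr _) (hqyr _)
        (fun e => hout (by rw [← Subtype.ext e]; exact interior_subset hin))
      let g : Set.Icc (0 : ℝ) 1 → U := fun t => ⟨P.mk τ (seg t), hτ ⟨_, rfl⟩⟩
      have hg : Continuous g := ((continuous_mk τ).comp continuous_seg).subtype_mk _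
      have e0 : g ⟨0, le_rfl, zero_le_one⟩ = qx (j + J) := Subtype.ext (by show P.mk τ (seg _) = _; rw [seg_zero, hτ0])
      have e1 : g ⟨1, zero_le_one, le_rfl⟩ = qy (j + J) := Subtype.ext (by show P.mk τ (seg _) = _; rw [seg_one, hτ1])
      have hpc : IsPreconnected (Set.range g) := by
        haveI : PreconnectedSpace (Set.Icc (0 : ℝ) 1) := isPreconnected_iff_preconnectedSpace.1 isPreconnected_Icc
        exact isPreconnected_range hg
      obtain ⟨z, ⟨t, rfl⟩, hz1, hz2⟩ : ∃ z ∈ Set.range g, z ∉ interior K ∧ z ∉ Kᶜ := by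
        by_contra hcon; push Not at hcon
        obtain ⟨z, -, hz1, hz2⟩ := hpc (interior K) Kᶜ isOpen_interior hKc.isOpen_compl
          (fun z hz => (em (z ∈ interior K)).imp id (hcon z hz)) ⟨_, ⟨_, e0⟩, hin⟩ ⟨_, ⟨_, e1⟩, hout⟩
        exact hz2 (interior_subset hz1)
      refine ⟨g t, ⟨not_not.1 hz2, hz1⟩, ?_⟩
      rcases eq_or_lt_of_le t.2.1 with ht0 | ht0
      · rw [show t = ⟨0, le_rfl, zero_le_one⟩ from Subtype.ext ht0.symm, e0]; exact min_le_left _ _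
      rcases eq_or_lt_of_le t.2.2 with ht1 | ht1
      · rw [show t = ⟨1, zero_le_one, le_rfl⟩ from Subtype.ext ht1, e1]; exact min_le_right _ _
      have h := hΦ Fan.two τ (Orth.basis _ 0) (seg t) (Orth.basis _ 1) (hτ ⟨_, rfl⟩) (hτ ⟨_, rfl⟩)
        (hτ ⟨_, rfl⟩) basis_indep ⟨1 - (t : ℝ), (t : ℝ), by linarith, ht0, seg_mid _⟩
      rw [show (⟨P.mk τ (Orth.basis _ 0), hτ ⟨_, rfl⟩⟩ : U) = qx (j + J) from Subtype.ext hτ0,
        show (⟨P.mk τ (Orth.basis _ 1), hτ ⟨_, rfl⟩⟩ : U) = qy (j + J) from Subtype.ext hτ1] at h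
      exact h.le
    choose z hzK hzmin using hz
    obtain ⟨z0, hz0K, hz0⟩ := ((hKc.sdiff isOpen_interior).isCompact).exists_mapClusterPt
      (f := atTop) (u := z) (tendsto_principal.2 (Eventually.of_forall hzK))
    refine ⟨z0, hz0K.1, hz0K.2, le_antisymm (hKle _ hz0K.1) (le_of_not_gt fun hlt => ?_)⟩
    obtain ⟨a, b, ha, hb, haz, hbx, hab⟩ : ∃ a b : Set Γ, IsOpen a ∧ IsOpen b ∧ Φ z0 ∈ a ∧ Φ x ∈ b ∧ ∀ p ∈ a, ∀ q ∈ b, p < q :=
      order_separated hlt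
    have hmin : Tendsto (fun j => min (Φ (qx (j + J))) (Φ (qy (j + J)))) atTop (𝓝 (Φ x)) := by
      rw [← min_eq_left hle]
      exact (((hΦc.tendsto x).comp hqx).min ((hΦc.tendsto y).comp hqy)).comp (tendsto_add_atTop_nat J)
    obtain ⟨j, hja, hjb⟩ := ((hz0.frequently ((hΦc.isOpen_preimage a ha).mem_nhds haz)).and_eventually
      (hmin.eventually (hb.mem_nhds hbx))).exists
    exact (hzmin j).not_gt (hab _ hja _ hjb)
  obtain ⟨K, hKx, hKc, hKW⟩ := exists_mem_nhds_isClosed_subset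
    (inter_mem (hx : {z | Φ z ≤ Φ x} ∈ 𝓝 x) (isOpen_compl_singleton.mem_nhds (show x ∈ ({y} : Set U)ᶜ from hne)))
  have hKle : ∀ z ∈ K, Φ z ≤ Φ x := fun z hz => (hKW hz).1
  let L : Set U := {z | z ∈ K ∧ Φ z = Φ x}
  let A : Set (P F) := Subtype.val '' (L \ {x})
  have hL : IsClosed (Subtype.val '' L) :=
    ((hKc.inter (isClosed_eq hΦc continuous_const)).isCompact.image continuous_subtype_val).isClosed
  have hA : ¬ IsClosed A := fun hc => by
    have hN : Subtype.val ⁻¹' Aᶜ ∈ 𝓝 x := (hc.isOpen_compl.preimage continuous_subtype_val).mem_nhds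
      fun ⟨p, hp, hpx⟩ => hp.2 (Subtype.ext hpx)
    obtain ⟨K', hK'x, hK'c, hK'⟩ := exists_mem_nhds_isClosed_subset (inter_mem hKx hN)
    obtain ⟨z, hzK, hzint, hzΦ⟩ := cross K' hK'c hK'x (fun z hz => hKle z (hK' hz).1) fun h => (hKW (hK' h).1).2 rfl
    exact (hK' hzK).2 ⟨z, ⟨⟨(hK' hzK).1, hzΦ⟩, fun e => hzint (by rw [e]; exact mem_interior_iff_mem_nhds.2 hK'x)⟩, rfl⟩
  rw [isClosed_iff] at hA
  push Not at hA
  obtain ⟨n, ξ, hξ⟩ := hA
  obtain ⟨v₀, hv₀, hv₀'⟩ : ∃ v₀ ∈ closure (P.mk ξ ⁻¹' A), v₀ ∉ P.mk ξ ⁻¹' A := by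
    by_contra hcon; push Not at hcon
    exact hξ (closure_subset_iff_isClosed.1 hcon)
  have hv₀x : P.mk ξ v₀ = x := by
    obtain ⟨z, hzL, hz⟩ := (hL.preimage (continuous_mk ξ)).closure_subset_iff.2
      (Set.preimage_mono (Set.image_mono Set.sdiff_subset)) hv₀
    by_contra hne'
    exact hv₀' ⟨z, ⟨hzL, fun e => hne' (by rw [← hz, Set.mem_singleton_iff.1 e])⟩, hz⟩
  let mid : Orth n → Orth n := fun w => ⟨v₀.1 + w.1, fun i => add_nonneg (v₀.2.1 i) (w.2.1 i), fun h => v₀.2.2 (funext fun i => by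
    have h1 := congrFun h i
    simp only [Pi.add_apply, Pi.zero_apply] at h1 ⊢
    linarith [v₀.2.1 i, w.2.1 i])⟩
  have hmid : Continuous mid := (continuous_const.add continuous_val).subtype_mk _
  have hmid0 : P.mk ξ (mid v₀) = x := (mk_scale ξ two_pos (v := v₀) (two_smul ℝ v₀.1).symm).symm.trans hv₀x
  obtain ⟨O, hO, hOK⟩ := isOpen_induced_iff.1 (isOpen_interior (s := K))
  have hxO : P.mk ξ (mid v₀) ∈ O := by
    rw [hmid0]
    have : x ∈ Subtype.val ⁻¹' O := by rw [hOK]; exact mem_interior_iff_mem_nhds.2 hKx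
    exact this
  obtain ⟨v₂, hv₂O, z, ⟨hzL, hzx⟩, hz⟩ := mem_closure_iff.1 hv₀ _ (hO.preimage ((continuous_mk ξ).comp hmid)) hxO
  have h0 : P.mk ξ v₀ ∈ U := hv₀x ▸ x.2
  have h2 : P.mk ξ v₂ ∈ U := hz ▸ z.2
  have h1 : P.mk ξ (mid v₂) ∈ U := hlc n ξ v₀ (mid v₂) v₂ h0 h2 ⟨1, 1, one_pos, one_pos, by simp [mid]⟩
  have hnp : ¬ ∃ c : ℝ, v₂.1 = c • v₀.1 := by
    rintro ⟨c, hc⟩
    obtain ⟨i, hi⟩ : ∃ i, v₀.1 i ≠ 0 := Function.ne_iff.1 v₀.2.2
    have hcpos : 0 < c := by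
      rcases lt_trichotomy c 0 with hc0 | hc0 | hc0
      · have := v₂.2.1 i; rw [hc] at this
        exact absurd this (not_le.2 (mul_neg_of_neg_of_pos hc0 (lt_of_le_of_ne (v₀.2.1 i) (Ne.symm hi))))
      · exact absurd (by rw [hc, hc0, zero_smul]) v₂.2.2
      · exact hc0
    exact hzx (Subtype.ext (hz.trans ((mk_scale ξ hcpos hc).symm.trans hv₀x)))
  have h := hΦ n ξ v₀ (mid v₂) v₂ h0 h1 h2 hnp ⟨1, 1, one_pos, one_pos, by simp [mid]⟩
  rw [show (⟨P.mk ξ v₀, h0⟩ : U) = x from Subtype.ext hv₀x, show (⟨P.mk ξ v₂, h2⟩ : U) = z from Subtype.ext hz.symm,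
    hzL.2, min_self] at h
  have hin : (⟨P.mk ξ (mid v₂), h1⟩ : U) ∈ interior K := by rw [← hOK]; exact hv₂O
  exact (hKle _ (interior_subset hin)).not_gt h

end Groth.Agent.InstabFanLib
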