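import Groth.Agent.Lib.InstabFan.Top
import Groth.Prelude.Def_W4c6instabfans3FanCvx

/-!
# The fan of a family of rational cones
-/

open CategoryTheory Opposite Limits Topology Filter
open Instab Instab.Fan

namespace Groth.Agent.InstabFanLib

variable {N : ℕ}

/-- Carathéodory for cones -/
theorem cone_caratheodory {β V : Type*} [AddCommGroup V] [Module ℝ V] (f : β → V) :
    ∀ (s : Finset β) (c : β → ℝ), (∀ g ∈ s, 0 ≤ c g) → ∃ t ⊆ s, ∃ d : β → ℝ, (∀ g ∈ t, 0 ≤ d g) ∧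
      ∑ g ∈ t, d g • f g = ∑ g ∈ s, c g • f g ∧ LinearIndependent ℝ (fun g : t => f g) := by
  classical
  intro s
  induction s using Finset.strongInduction with
  | H s ih =>
    intro c hc
    by_cases hli : LinearIndependent ℝ (fun g : s => f g)
    · exact ⟨s, subset_rfl, c, hc, rfl, hli⟩
    obtain ⟨d, hd0, g₁, hg₁⟩ := Fintype.not_linearIndependent_iff.1 hli
    let D : β → ℝ := fun g => if h : g ∈ s then d ⟨g, h⟩ else 0
    have hD0 : ∑ g ∈ s, D g • f g = 0 := by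
      rw [← Finset.sum_coe_sort, ← hd0]
      exact Finset.sum_congr rfl fun g _ => by simp [D]
    obtain ⟨E, hE0, g₂, hg₂s, hg₂⟩ : ∃ E : β → ℝ, ∑ g ∈ s, E g • f g = 0 ∧ ∃ g ∈ s, 0 < E g := by
      rcases lt_trichotomy (d g₁) 0 with h | h | h
      · exact ⟨-D, by simp [hD0], g₁, g₁.2, by simp [D, h]⟩
      · exact absurd h hg₁
      · exact ⟨D, hD0, g₁, g₁.2, by simp [D, h]⟩
    obtain ⟨g₀, hg₀, hmin⟩ := (s.filter fun g => 0 < E g).exists_min_image (fun g => c g / E g) ⟨g₂, by simp [hg₂s, hg₂]⟩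
    rw [Finset.mem_filter] at hg₀
    set r := c g₀ / E g₀
    have hr : 0 ≤ r := div_nonneg (hc _ hg₀.1) hg₀.2.le
    let c' : β → ℝ := fun g => c g - r * E g
    have hc' : ∀ g ∈ s.erase g₀, 0 ≤ c' g := fun g hg => by
      have hgs := Finset.mem_of_mem_erase hg
      rcases le_or_gt (E g) 0 with h | h
      · simp only [c']; nlinarith [hc g hgs]
      · have := hmin g (by simp [hgs, h])
        rw [le_div_iff₀ h] at this
        simp only [c', sub_nonneg]; exact this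
    obtain ⟨t, ht, e, he, hsum, hti⟩ := ih _ (Finset.erase_ssubset hg₀.1) c' hc'
    refine ⟨t, ht.trans (Finset.erase_subset _ _), e, he, hsum.trans ?_, hti⟩
    have h0 : c' g₀ = 0 := by simp only [c', r]; field_simp [hg₀.2.ne']; ring
    rw [Finset.sum_erase _ (by rw [h0, zero_smul])]
    simp only [c', sub_smul, mul_smul, Finset.sum_sub_distrib, ← Finset.smul_sum, hE0, smul_zero, sub_zero]

/-- real vector of an integer one -/
def castVec (g : Fin N → ℤ) : Fin N → ℝ := fun j => (g j : ℝ)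

/-- the cone spanned by finitely many integer vectors -/
def genCone (s : Finset (Fin N → ℤ)) : Set (Fin N → ℝ) :=
  {x | ∃ c : (Fin N → ℤ) → ℝ, (∀ g, 0 ≤ c g) ∧ x = Finset.sum s fun g => c g • fun j => (g j : ℝ)}

/-- parametrisation of the simplicial cone of a finite set -/
noncomputable def simp' (t : Finset (Fin N → ℤ)) : (Fin t.card → ℤ) →ₗ[ℤ] (Fin N → ℤ) :=
  Fintype.linearCombination ℤ fun i => (t.equivFin.symm i : Fin N → ℤ)

theorem rvec_simp' (t : Finset (Fin N → ℤ)) (v : Fin t.card → ℝ) :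
    rvec (simp' t) v = ∑ i, v i • castVec (t.equivFin.symm i : Fin N → ℤ) := funext fun j => by
  classical
  simp [rvec_apply, simp', Fintype.linearCombination_apply, Pi.single_apply, Finset.sum_apply, castVec, mul_comm, ite_apply, apply_ite]

theorem rvec_simp'_mem {s t : Finset (Fin N → ℤ)} (h : t ⊆ s) {v : Fin t.card → ℝ} (hv : ∀ i, 0 ≤ v i) :
    rvec (simp' t) v ∈ genCone s := by
  classical
  refine ⟨fun g => if hg : g ∈ t then v (t.equivFin ⟨g, hg⟩) else 0, fun g => by dsimp only; split_ifs <;> simp [hv], ?_⟩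
  rw [rvec_simp']
  refine Eq.trans ?_ (Finset.sum_subset h fun g _ hg => by simp [hg])
  rw [← Finset.sum_coe_sort t]
  refine Fintype.sum_equiv t.equivFin.symm _ _ fun i => ?_
  simp only [Subtype.coe_eta, Equiv.apply_symm_apply, (t.equivFin.symm i).2, dif_pos]
  rfl

theorem simp'_injective {t : Finset (Fin N → ℤ)} (h : LinearIndependent ℝ (fun g : t => castVec (g : Fin N → ℤ))) :
    Function.Injective (simp' t) := by
  rw [injective_iff_map_eq_zero]
  intro z hz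
  have h1 : rvec (simp' t) (fun i => (z i : ℝ)) = 0 := by rw [rvec_intCast, hz]; simp [funext_iff]
  rw [rvec_simp'] at h1
  have h2 := (Fintype.linearIndependent_iff.1 (h.comp t.equivFin.symm t.equivFin.symm.injective)) (fun i => (z i : ℝ)) h1
  exact funext fun i => by simpa using h2 i

theorem mem_genCone_iff {s : Finset (Fin N → ℤ)} {x : Fin N → ℝ} :
    x ∈ genCone s ↔ ∃ t ∈ s.powerset, LinearIndependent ℝ (fun g : t => castVec (g : Fin N → ℤ)) ∧
      ∃ v : Fin t.card → ℝ, (∀ i, 0 ≤ v i) ∧ x = rvec (simp' t) v := by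
  constructor
  · rintro ⟨c, hc, rfl⟩
    obtain ⟨t, ht, d, hd, hsum, hti⟩ := cone_caratheodory castVec s c (fun g _ => hc g)
    refine ⟨t, Finset.mem_powerset.2 ht, hti, fun i => d (t.equivFin.symm i), fun i => hd _ (t.equivFin.symm i).2, ?_⟩
    rw [rvec_simp']
    refine hsum.symm.trans ?_
    rw [← Finset.sum_coe_sort t]
    exact (Fintype.sum_equiv t.equivFin.symm _ _ fun i => rfl).symm
  · rintro ⟨t, ht, -, v, hv, rfl⟩
    exact rvec_simp'_mem (Finset.mem_powerset.1 ht) hv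

theorem isClosed_genCone (s : Finset (Fin N → ℤ)) : IsClosed (genCone s) := by
  classical
  have : genCone s = ⋃ t ∈ s.powerset.filter (fun t : Finset (Fin N → ℤ) => LinearIndependent ℝ (fun g : t => castVec (g : Fin N → ℤ))),
      rvec (simp' t) '' {v | ∀ i, 0 ≤ v i} := by
    ext x
    simp only [mem_genCone_iff, Set.mem_iUnion, Finset.mem_filter, Set.mem_image, Set.mem_setOf_eq]
    constructor
    · rintro ⟨t, ht, hti, v, hv, rfl⟩; exact ⟨t, ⟨ht, hti⟩, v, hv, rfl⟩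
    · rintro ⟨t, ⟨ht, hti⟩, v, hv, rfl⟩; exact ⟨t, ht, hti, v, hv, rfl⟩
  rw [this]
  refine Set.Finite.isClosed_biUnion (Finset.finite_toSet _) fun t ht => ?_
  have hinj := rvec_injective (simp'_injective (Finset.mem_filter.1 ht).2)
  refine (LinearMap.isClosedEmbedding_of_injective (LinearMap.ker_eq_bot.2 hinj)).isClosedMap _ ?_
  rw [Set.setOf_forall]; exact isClosed_iInter fun i => isClosed_le continuous_const (continuous_apply i)

theorem genCone_smul {s : Finset (Fin N → ℤ)} {x : Fin N → ℝ} (hx : x ∈ genCone s) {r : ℝ} (hr : 0 ≤ r) :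
    r • x ∈ genCone s := by
  obtain ⟨c, hc, rfl⟩ := hx
  exact ⟨fun g => r * c g, fun g => mul_nonneg hr (hc g), by rw [Finset.smul_sum]; simp [mul_smul]⟩

variable {ι : Type} [Finite ι] (K : ι → Set (Fin N → ℝ))

theorem rayMap_rel {n k : ICone} (φ : k ⟶ n) (ξ : (RFan K).obj (op n)) (v : Orth k) (w : Orth n) (c : ℝ)
    (h : w.1 = c • φ.realMap v.1) :
    RFan.toVec K n ξ w.1 = c • RFan.toVec K k ((RFan K).map φ.op ξ) v.1 := by
  show rvec ξ.1 w.1 = c • rvec (ξ.1.comp φ.toLin) v.1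
  rw [rvec_comp, h, map_smul]
  rfl

theorem toVec_ne {n : ICone} (ξ : (RFan K).obj (op n)) (v : Orth n) : RFan.toVec K n ξ v.1 ≠ 0 := fun h =>
  v.2.2 (rvec_injective ξ.2.1 (h.trans (rvec ξ.1).map_zero.symm))

/-- the ray map -/
noncomputable def rayMap : Fan.P (RFan K) → Fan.Rays N :=
  Quot.lift (fun p => Quot.mk _ ⟨RFan.toVec K p.1.1 p.1.2 p.2.1, toVec_ne K p.1.2 p.2⟩) (by
    rintro _ _ ⟨φ, ξ, v, w, c, hc, h⟩
    exact Quot.sound ⟨c, hc, rayMap_rel K φ ξ v w c h⟩)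

theorem continuous_rayMap : Continuous (rayMap K) := by
  refine continuous_quot_lift _ (continuous_quot_mk.comp (continuous_sigma fun e => ?_))
  exact Continuous.subtype_mk ((LinearMap.continuous_of_finiteDimensional (rvec e.2.1)).comp continuous_val) _

/-- normalised representative -/
noncomputable def rayNrm : Fan.Rays N → (Fin N → ℝ) :=
  Quot.lift (fun w => ‖w.1‖⁻¹ • w.1) (by
    rintro a b ⟨c, hc, h⟩
    simp only [h, norm_smul, Real.norm_of_nonneg hc.le, mul_inv, smul_smul]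
    congr 1
    field_simp)

theorem rayNrm_eq {a b : {w : Fin N → ℝ // w ≠ 0}} (h : ‖a.1‖⁻¹ • a.1 = ‖b.1‖⁻¹ • b.1) :
    ∃ c : ℝ, 0 < c ∧ b.1 = c • a.1 := by
  refine ⟨‖b.1‖ * ‖a.1‖⁻¹, mul_pos (norm_pos_iff.2 b.2) (inv_pos.2 (norm_pos_iff.2 a.2)), ?_⟩
  rw [mul_smul, h, smul_smul, mul_inv_cancel₀ (norm_ne_zero_iff.2 b.2), one_smul]

theorem rayNrm_injective : Function.Injective (rayNrm (N := N)) := by
  intro a b h
  induction a using Quot.ind with
  | _ a =>
    induction b using Quot.ind with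
    | _ b => exact Quot.sound (rayNrm_eq h)

theorem t2Space_rays : T2Space (Fan.Rays N) :=
  T2Space.of_injective_continuous rayNrm_injective (continuous_quot_lift _
    (((continuous_norm.comp continuous_subtype_val).inv₀ fun w => norm_ne_zero_iff.2 w.2).smul continuous_subtype_val))

theorem rayMap_injective : Function.Injective (rayMap K) := by
  intro x y h
  obtain ⟨n, ξ, v, rfl⟩ := exists_mk x
  obtain ⟨n', ξ', v', rfl⟩ := exists_mk y
  obtain ⟨c, hc, e⟩ := rayNrm_eq (congrArg rayNrm h : _)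
  have e' : rvec ξ'.1 v'.1 = rvec ξ.1 (c • v.1) := by rw [map_smul]; exact e
  obtain ⟨r, ψ, ψ', z, hr, hc', hi, hi', hn, hn', hz, hz0, e1, e2⟩ :=
    common_refinement ξ.1 ξ'.1 ξ.2.1 ξ'.2.1 (c • v.1) v'.1 (scale c hc v).2.1 v'.2.1 (scale c hc v).2.2 e'.symm
  refine Meet.mk_eq ⟨⟨⟨r, hr⟩⟩, ⟨ψ, hi, hn⟩, ⟨ψ', hi', hn'⟩, ⟨z, hz, hz0⟩, c⁻¹, 1,
    Subtype.ext hc', inv_pos.2 hc, one_pos, ?_, ?_⟩
  · show v.1 = c⁻¹ • rvec ψ z
    rw [e1, inv_smul_smul₀ hc.ne']
  · show v'.1 = (1 : ℝ) • rvec ψ' z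
    rw [e2, one_smul]

set_option maxHeartbeats 1000000 in
theorem rfan_homeo (hK : ∀ a, ∃ (m : ℕ) (gen : Fin m → Finset (Fin N → ℤ)),
      K a = Set.iUnion fun l => {x | ∃ c : (Fin N → ℤ) → ℝ, (∀ g, 0 ≤ c g) ∧
        x = Finset.sum (gen l) fun g => c g • fun j => (g j : ℝ)}) :
    ∃ g : Fan.P (RFan K) → Fan.Rays N,
      (∀ (n : ICone) (φ : (RFan K).obj (op n)) (v : Fan.Orth n) (h : RFan.toVec K n φ v.1 ≠ 0),
        g (Fan.P.mk φ v) = Quot.mk _ ⟨RFan.toVec K n φ v.1, h⟩) ∧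
      Topology.IsEmbedding g ∧
      Set.range g = {r | ∃ w : {w : Fin N → ℝ // w ≠ 0}, r = Quot.mk _ w ∧ w.1 ∈ Set.iUnion K} := by
  classical
  choose m gen hgen using hK
  have hKcl : ∀ a, IsClosed (K a) := fun a => by
    rw [hgen a]; exact isClosed_iUnion_of_finite fun l => isClosed_genCone _
  have hKsm : ∀ a {x} {r : ℝ}, x ∈ K a → 0 ≤ r → r • x ∈ K a := fun a x r hx hr => by
    rw [hgen a, Set.mem_iUnion] at hx ⊢
    exact hx.imp fun l hl => genCone_smul hl hr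
  have hmem : ∀ {n : ICone} (φ : (RFan K).obj (op n)) (v : Orth n), rvec φ.1 v.1 ∈ Set.iUnion K := fun {n} φ v => by
    obtain ⟨a, ha⟩ := φ.2.2
    refine Set.mem_iUnion.2 ⟨a, ?_⟩
    by_contra hv
    have hO : IsOpen ((fun w : Orth n => rvec φ.1 w.1) ⁻¹' (K a)ᶜ) :=
      (hKcl a).isOpen_compl.preimage ((LinearMap.continuous_of_finiteDimensional (rvec φ.1)).comp continuous_val)
    obtain ⟨w, hw, g, hg, -, c, hc, hwc⟩ := rational_dense hO (v := v) hv
    refine hw ?_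
    show rvec φ.1 w.1 ∈ K a
    rw [hwc, map_smul, rvec_intCast]
    exact hKsm a (ha g hg) hc.le
  have hcells : ∀ a (w : Fin N → ℝ), w ∈ K a → w ≠ 0 → ∃ l, ∃ t ∈ (gen a l).powerset,
      ∃ (hti : LinearIndependent ℝ (fun g : t => castVec (g : Fin N → ℤ))) (ht : 0 < t.card) (v : Fin t.card → ℝ),
        (∀ i, 0 ≤ v i) ∧ v ≠ 0 ∧ w = rvec (simp' t) v := fun a w hw hw0 => by
    rw [hgen a, Set.mem_iUnion] at hw
    obtain ⟨l, hl⟩ := hw
    obtain ⟨t, ht, hti, v, hv, rfl⟩ := mem_genCone_iff.1 hl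
    have hv0 : v ≠ 0 := fun h => hw0 (by rw [h, map_zero])
    exact ⟨l, t, ht, hti, Nat.pos_of_ne_zero fun h => hv0 (funext fun i => absurd i.isLt (by omega)), v, hv, hv0, rfl⟩
  -- finitely many simplices
  let J := {p : Σ a : ι, Σ l : Fin (m a), (gen a l).powerset //
    LinearIndependent ℝ (fun g : (p.2.2 : Finset (Fin N → ℤ)) => castVec (g : Fin N → ℤ)) ∧ 0 < (p.2.2 : Finset (Fin N → ℤ)).card}
  let cn : (p : J) → (RFan K).obj (op (⟨⟨_, p.2.2⟩⟩ : ICone)) := fun p =>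
    (⟨simp' p.1.2.2.1, simp'_injective p.2.1, p.1.1, fun v hv => by
      rw [hgen, Set.mem_iUnion]
      refine ⟨p.1.2.1, ?_⟩
      have := rvec_simp'_mem (Finset.mem_powerset.1 p.1.2.2.2) (v := fun i => ((v i : ℤ) : ℝ)) fun i => Int.cast_nonneg (hv i)
      exact (congrArg (· ∈ genCone _) (rvec_intCast (simp' p.1.2.2.1) v)).mp this⟩ :
      RFan.Cone K (⟨⟨_, p.2.2⟩⟩ : ICone))
  have hcover : (Set.univ : Set (Fan.P (RFan K))) ⊆ ⋃ p : J, P.cell (cn p) := fun x _ => by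
    obtain ⟨n, φ, v, rfl⟩ := exists_mk x
    obtain ⟨a, ha⟩ := Set.mem_iUnion.1 (hmem φ v)
    obtain ⟨l, t, ht, hti, htc, u, hu, hu0, hw⟩ := hcells a _ ha (toVec_ne K φ v)
    refine Set.mem_iUnion.2 ⟨⟨⟨a, l, t, ht⟩, hti, htc⟩, ⟨u, hu, hu0⟩, rayMap_injective K (Quot.sound ⟨1, one_pos, ?_⟩)⟩
    show rvec φ.1 v.1 = (1 : ℝ) • rvec (simp' t) u
    rw [one_smul, hw]
  haveI : CompactSpace (Fan.P (RFan K)) := by
    refine ⟨?_⟩
    have hc : ∀ p : J, IsCompact (P.cell (cn p)) := fun p => by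
      let n : ICone := ⟨⟨_, p.2.2⟩⟩
      let f : stdSimplex ℝ (Fin n.dim) → Orth n := fun w => ⟨w.1, w.2.1, fun h => by
        have := w.2.2; rw [h] at this; simp at this⟩
      have hf : Continuous f := continuous_subtype_val.subtype_mk _
      haveI : CompactSpace (stdSimplex ℝ (Fin n.dim)) := isCompact_iff_compactSpace.1 (isCompact_stdSimplex ℝ _)
      have : P.cell (cn p) = Set.range (fun w => P.mk (cn p) (f w)) := by
        refine Set.Subset.antisymm ?_ (Set.range_subset_iff.2 fun w => ⟨_, rfl⟩)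
        rintro _ ⟨v, rfl⟩
        refine ⟨⟨nrm v, fun i => mul_nonneg (inv_pos.2 (sum_pos v)).le (v.2.1 i), ?_⟩, (mk_scale (cn p) (inv_pos.2 (sum_pos v)) rfl).symm⟩
        simp only [nrm, Pi.smul_apply, smul_eq_mul, ← Finset.mul_sum]
        exact inv_mul_cancel₀ (sum_pos v).ne'
      rw [this]
      exact isCompact_range ((continuous_mk _).comp hf)
    rw [show (Set.univ : Set (Fan.P (RFan K))) = ⋃ p : J, P.cell (cn p) from hcover.antisymm (Set.subset_univ _)]
    exact isCompact_iUnion hc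
  haveI := t2Space_rays (N := N)
  refine ⟨rayMap K, fun n φ v h => rfl, ((continuous_rayMap K).isClosedEmbedding (rayMap_injective K)).isEmbedding,
    Set.ext fun r => ⟨?_, ?_⟩⟩
  · rintro ⟨x, rfl⟩
    obtain ⟨n, φ, v, rfl⟩ := exists_mk x
    exact ⟨⟨_, toVec_ne K φ v⟩, rfl, hmem φ v⟩
  · rintro ⟨w, rfl, hw⟩
    obtain ⟨a, ha⟩ := Set.mem_iUnion.1 hw
    obtain ⟨l, t, ht, hti, htc, u, hu, hu0, hwe⟩ := hcells a _ ha w.2
    refine ⟨P.mk (cn ⟨⟨a, l, t, ht⟩, hti, htc⟩) ⟨u, hu, hu0⟩, Quot.sound ⟨1, one_pos, ?_⟩⟩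
    rw [one_smul, hwe]
    rfl

end Groth.Agent.InstabFanLib
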