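import Groth.Agent.Lib.InstabFan.Basic
import Mathlib.Analysis.Normed.Module.FiniteDimension
import Mathlib.Analysis.Convex.StdSimplex
import Mathlib.Analysis.SpecificLimits.FloorPow

/-!
# Topology of the projective realization of a formal fan
-/

open CategoryTheory Opposite Limits Topology Filter
open Instab Instab.Fan

namespace Groth.Agent.InstabFanLib

universe u

variable {F G : Fan.{u}} {n k m : ICone}

theorem continuous_mk (ξ : F.obj (op n)) : Continuous (P.mk ξ) :=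
  continuous_quot_mk.comp (continuous_sigmaMk (i := (⟨n, ξ⟩ : Σ n : ICone, F.obj (op n))))

theorem isClosed_iff (S : Set (P F)) : IsClosed S ↔ ∀ (n : ICone) (ξ : F.obj (op n)), IsClosed (P.mk ξ ⁻¹' S) := by
  refine ⟨fun h n ξ => h.preimage (continuous_mk ξ), fun h => ?_⟩
  exact (isQuotientMap_quot_mk (r := Rel F)).isClosed_preimage.mp (isClosed_sigma_iff.2 fun e => h e.1 e.2)

theorem continuous_map (f : F ⟶ G) : Continuous (P.map f) := by
  refine continuous_iff_isClosed.2 fun S hS => (isClosed_iff _).2 fun n ξ => ?_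
  exact (isClosed_iff S).1 hS n (f.app _ ξ)

theorem continuous_val : Continuous (fun v : Orth n => v.1) := continuous_subtype_val

theorem continuous_push (φ : k ⟶ n) : Continuous (push φ) :=
  Continuous.subtype_mk ((LinearMap.continuous_of_finiteDimensional (rvec φ.toLin)).comp continuous_val) _

theorem isClosed_push_image (φ : k ⟶ n) {C : Set (Orth k)} (hC : IsClosed C) : IsClosed (push φ '' C) := by
  obtain ⟨D, hD, rfl⟩ := isClosed_induced_iff.1 hC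
  have hemb := LinearMap.isClosedEmbedding_of_injective (f := rvec φ.toLin) (LinearMap.ker_eq_bot.2 (rvec_injective φ.injective))
  have hor : IsClosed {v : Fin k.dim → ℝ | ∀ i, 0 ≤ v i} := by
    rw [Set.setOf_forall]; exact isClosed_iInter fun i => isClosed_le continuous_const (continuous_apply i)
  refine isClosed_induced_iff.2 ⟨rvec φ.toLin '' (D ∩ {v | ∀ i, 0 ≤ v i}), hemb.isClosedMap _ (hD.inter hor), ?_⟩
  ext v
  constructor
  · rintro ⟨d, ⟨hd, hd0⟩, hv⟩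
    refine ⟨⟨d, hd0, fun h => v.2.2 ?_⟩, hd, Subtype.ext hv⟩
    rw [h, map_zero] at hv
    exact hv.symm
  · rintro ⟨w, hw, rfl⟩
    exact ⟨w.1, ⟨hw, w.2.1⟩, rfl⟩

/-- the sum of the coordinates -/
theorem sum_pos (v : Orth n) : 0 < ∑ i, v.1 i := by
  refine lt_of_le_of_ne (Finset.sum_nonneg fun i _ => v.2.1 i) fun h => v.2.2 (funext fun i => ?_)
  exact (Finset.sum_eq_zero_iff_of_nonneg fun i _ => v.2.1 i).1 h.symm i (Finset.mem_univ i)

/-- normalised representative of a ray -/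
noncomputable def nrm (v : Orth n) : Fin n.dim → ℝ := (∑ i, v.1 i)⁻¹ • v.1

theorem continuous_nrm : Continuous (nrm (n := n)) :=
  ((continuous_finset_sum _ fun i _ => (continuous_apply i).comp continuous_val).inv₀ fun v => (sum_pos v).ne').smul continuous_val

theorem nrm_eq_iff {v w : Orth n} : nrm v = nrm w ↔ ∃ c : ℝ, 0 < c ∧ w.1 = c • v.1 := by
  constructor
  · intro h
    refine ⟨(∑ i, w.1 i) * (∑ i, v.1 i)⁻¹, mul_pos (sum_pos w) (inv_pos.2 (sum_pos v)), ?_⟩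
    rw [← smul_smul]
    show _ = _ • nrm v
    rw [h, nrm, smul_smul, mul_inv_cancel₀ (sum_pos w).ne', one_smul]
  · rintro ⟨c, hc, h⟩
    simp only [nrm, h, Pi.smul_apply, smul_eq_mul, ← Finset.mul_sum, mul_inv, smul_smul]
    congr 1
    field_simp

theorem mk_eq_of_nrm (ξ : F.obj (op n)) {v w : Orth n} (h : nrm v = nrm w) : P.mk ξ v = P.mk ξ w :=
  let ⟨_, hc, e⟩ := nrm_eq_iff.1 h; mk_scale ξ hc e

/-- finitely many cells controlling a bounded map over a cone -/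
theorem exists_cells {ψ : F ⟶ G} (hψ : IsBoundedMap ψ) {n : ICone} (σ : G.obj (op n)) :
    ∃ s : Finset (Σ k : ICone, (k ⟶ n) × F.obj (op k)),
      (∀ e ∈ s, ψ.app _ e.2.2 = G.map e.2.1.op σ) ∧
      ∀ (x : P F) (v : Orth n), P.map ψ x = P.mk σ v →
        ∃ e ∈ s, ∃ w : Orth e.1, push e.2.1 w = v ∧ P.mk e.2.2 w = x := by
  classical
  obtain ⟨t, ht⟩ := hψ n σ
  let toE : (Σ k : ICone, (pullback ψ (coneMap σ)).obj (op k)) → (Σ k : ICone, (k ⟶ n) × F.obj (op k)) := fun e =>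
    ⟨e.1, ((pullback.snd ψ (coneMap σ)).app _ e.2).down, (pullback.fst ψ (coneMap σ)).app _ e.2⟩
  refine ⟨t.image toE, fun e he => ?_, fun x v hxv => ?_⟩
  · obtain ⟨c, -, rfl⟩ := Finset.mem_image.1 he
    refine (pullback_cond c.2).trans ?_
    exact coneMap_app σ _
  · have hpt : P.map ψ x = P.map (coneMap σ) (P.mk (yid n) v) :=
      hxv.trans (congrArg (P.mk · v) (coneMap_app_id σ).symm)
    obtain ⟨y, hy1, hy2⟩ := exists_pullback_point _ _ _ _ hpt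
    obtain ⟨c, hc, w, hw⟩ := ht y
    rw [← hw, map_mk] at hy1 hy2
    obtain ⟨r, hr, e⟩ := yoneda_mk_inj (φ := ((pullback.snd ψ (coneMap σ)).app _ c.2).down) hy2
    refine ⟨toE c, Finset.mem_image_of_mem _ hc, scale r hr w, Subtype.ext ?_, ?_⟩
    · show ICone.Hom.realMap _ (r • w.1) = v.1
      rw [realMap_smul, e]
    · exact ((mk_scale _ hr rfl).symm).trans hy1

theorem preimage_map_image {ψ : F ⟶ G} {n : ICone} {σ : G.obj (op n)} {s : Finset (Σ k : ICone, (k ⟶ n) × F.obj (op k))}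
    (h1 : ∀ e ∈ s, ψ.app _ e.2.2 = G.map e.2.1.op σ)
    (h2 : ∀ (x : P F) (v : Orth n), P.map ψ x = P.mk σ v → ∃ e ∈ s, ∃ w : Orth e.1, push e.2.1 w = v ∧ P.mk e.2.2 w = x)
    (C : Set (P F)) : P.mk σ ⁻¹' (P.map ψ '' C) = ⋃ e ∈ s, push e.2.1 '' (P.mk e.2.2 ⁻¹' C) := by
  ext v
  simp only [Set.mem_preimage, Set.mem_image, Set.mem_iUnion, exists_prop]
  constructor
  · rintro ⟨x, hx, hxv⟩
    obtain ⟨e, he, w, hw, hwx⟩ := h2 x v hxv
    exact ⟨e, he, w, hwx ▸ hx, hw⟩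
  · rintro ⟨e, he, w, hw, rfl⟩
    exact ⟨_, hw, by rw [map_mk, h1 e he]; exact mk_map_push _ σ w⟩

theorem isClosedMap_map {ψ : F ⟶ G} (hψ : IsBoundedMap ψ) : IsClosedMap (P.map ψ) := by
  intro C hC
  refine (isClosed_iff _).2 fun n σ => ?_
  obtain ⟨s, h1, h2⟩ := exists_cells hψ σ
  rw [preimage_map_image h1 h2]
  exact s.finite_toSet.isClosed_biUnion fun e _ => isClosed_push_image _ (hC.preimage (continuous_mk _))

theorem finite_fibre {ψ : F ⟶ G} (hψ : IsBoundedMap ψ) (y : P G) : (P.map ψ ⁻¹' {y}).Finite := by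
  obtain ⟨n, σ, v, rfl⟩ := exists_mk y
  obtain ⟨s, -, h2⟩ := exists_cells hψ σ
  refine ((s.finite_toSet.biUnion (t := fun e => {x | ∃ w : Orth e.1, push e.2.1 w = v ∧ P.mk e.2.2 w = x})
    fun e _ => ?_)).subset fun x hx => ?_
  · refine Set.Subsingleton.finite ?_
    rintro _ ⟨w, hw, rfl⟩ _ ⟨w', hw', rfl⟩
    rw [Subtype.ext (realMap_injective e.2.1 (congrArg Subtype.val (hw.trans hw'.symm)) : w.1 = w'.1)]
  · obtain ⟨e, he, hw⟩ := h2 x v hx
    exact Set.mem_biUnion he hw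

theorem preimage_range_eq {ψ : F ⟶ G} (hψ : IsBoundedMap ψ) {n : ICone} (ξ : G.obj (op n)) :
    ∃ s : Finset (Σ k : ICone, k ⟶ n), {v : Orth n | P.mk ξ v ∈ Set.range (P.map ψ)} =
      ⋃ e ∈ s, {v : Orth n | ∃ (y : Orth e.1) (c : ℝ), 0 < c ∧ v.1 = c • e.2.realMap y.1} := by
  classical
  obtain ⟨s, h1, h2⟩ := exists_cells hψ ξ
  refine ⟨s.image fun e => ⟨e.1, e.2.1⟩, ?_⟩
  ext v
  simp only [Set.mem_setOf_eq, Set.mem_iUnion, Finset.mem_image, exists_prop]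
  constructor
  · rintro ⟨x, hx⟩
    obtain ⟨e, he, w, hw, -⟩ := h2 x v hx
    exact ⟨⟨e.1, e.2.1⟩, ⟨e, he, rfl⟩, w, 1, one_pos, by rw [one_smul, ← hw]; rfl⟩
  · rintro ⟨_, ⟨e, he, rfl⟩, w, c, hc, hv⟩
    exact ⟨P.mk e.2.2 w, by rw [map_mk, h1 e he]; exact mk_eq_of_rel _ ξ hc hv⟩

/-- the ray through an integer vector -/
theorem exists_ray (ξ : F.obj (op n)) (g : Fin n.dim → ℤ) (hg : ∀ i, 0 ≤ g i) (hg0 : g ≠ 0) (v : Orth n)
    (hv : ∃ c : ℝ, 0 < c ∧ v.1 = c • fun i => (g i : ℝ)) : (P.mk ξ v).IsRational := by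
  obtain ⟨i₀, hi₀⟩ := Function.ne_iff.1 hg0
  haveI : Subsingleton (Fin (Fan.one.dim : ℕ)) := inferInstanceAs (Subsingleton (Fin 1))
  let L : (Fin (Fan.one.dim : ℕ) → ℤ) →ₗ[ℤ] (Fin n.dim → ℤ) := (LinearMap.proj (0 : Fin (Fan.one.dim : ℕ))).smulRight g
  let ρ : Fan.one ⟶ n := ⟨L, fun a b h => funext fun i => by
      have := congrFun h i₀
      simp only [L, LinearMap.smulRight_apply, LinearMap.proj_apply, Pi.smul_apply, smul_eq_mul] at this
      rw [Subsingleton.elim i (0 : Fin (Fan.one.dim : ℕ))]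
      exact mul_right_cancel₀ hi₀ this,
    fun a ha i => mul_nonneg (ha 0) (hg i)⟩
  refine ⟨F.map ρ.op ξ, ?_⟩
  obtain ⟨c, hc, hv⟩ := hv
  symm
  refine mk_eq_of_rel ρ ξ hc ?_
  rw [hv]
  congr 1
  funext i
  show _ = ∑ j, ((L (Pi.single j 1) i : ℤ) : ℝ) * 1
  rw [Fintype.sum_subsingleton _ (0 : Fin (Fan.one.dim : ℕ)), mul_one]
  show ((g i : ℤ) : ℝ) = (((Pi.single (0 : Fin (Fan.one.dim : ℕ)) (1 : ℤ) : Fin (Fan.one.dim : ℕ) → ℤ) 0 * g i : ℤ) : ℝ)
  rw [Pi.single_eq_same, one_mul]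

theorem rational_dense {v : Orth n} {O : Set (Orth n)} (hO : IsOpen O) (hv : v ∈ O) :
    ∃ w ∈ O, ∃ g : Fin n.dim → ℤ, (∀ i, 0 ≤ g i) ∧ g ≠ 0 ∧ ∃ c : ℝ, 0 < c ∧ w.1 = c • fun i => (g i : ℝ) := by
  obtain ⟨i₀, hi₀⟩ : ∃ i, 0 < v.1 i := by
    by_contra h; push Not at h
    exact v.2.2 (funext fun i => le_antisymm (h i) (v.2.1 i))
  let g : ℕ → Fin n.dim → ℤ := fun M i => (⌈v.1 i * (M + 1 : ℝ)⌉₊ : ℤ)
  have hg0 : ∀ M, g M ≠ 0 := fun M h => by
    have := congrFun h i₀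
    simp only [g, Pi.zero_apply, Nat.cast_eq_zero, Nat.ceil_eq_zero] at this
    nlinarith [(Nat.cast_nonneg M : (0:ℝ) ≤ M)]
  let w : ℕ → Orth n := fun M => ⟨((M : ℝ) + 1)⁻¹ • fun i => (g M i : ℝ),
    fun i => mul_nonneg (by positivity) (by simp [g]), smul_ne_zero (by positivity) fun h => hg0 M (funext fun i => Int.cast_eq_zero.1 (congrFun h i))⟩
  have ht : Tendsto w atTop (𝓝 v) := by
    refine tendsto_subtype_rng.2 (tendsto_pi_nhds.2 fun i => ?_)
    have h1 := (tendsto_nat_ceil_mul_div_atTop (v.2.1 i) (R := ℝ)).comp (tendsto_natCast_atTop_atTop.atTop_add (tendsto_const_nhds (x := (1 : ℝ))))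
    refine h1.congr fun M => ?_
    simp [w, g, div_eq_inv_mul]
  obtain ⟨M, hM⟩ := (ht.eventually (hO.mem_nhds hv)).exists
  exact ⟨w M, hM, g M, fun i => by simp [g], hg0 M, _, inv_pos.2 (by positivity : (0:ℝ) < M + 1), rfl⟩

theorem surjective_of_rational {ψ : F ⟶ G} (hψ : IsBoundedMap ψ)
    (h : ∀ y : P G, y.IsRational → y ∈ Set.range (P.map ψ)) : Function.Surjective (P.map ψ) := by
  intro y
  obtain ⟨n, σ, v, rfl⟩ := exists_mk y
  by_contra hv
  have hO : IsOpen (P.mk σ ⁻¹' (Set.range (P.map ψ))ᶜ) :=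
    ((isClosedMap_map hψ).isClosed_range.isOpen_compl).preimage (continuous_mk σ)
  obtain ⟨w, hw, g, hg, hg0, hc⟩ := rational_dense (v := v) hO (fun hh => hv hh)
  exact hw (h _ (exists_ray σ g hg hg0 w hc))

theorem bounded_coneMap (hF : F.IsQuasiSeparated) (ξ : F.obj (op n)) : IsBoundedMap (coneMap ξ) :=
  fun n' ξ' => hF n n' ξ ξ'

theorem coincidence (hG : G.IsQuasiSeparated) {n n' : ICone} (ξ : G.obj (op n)) (ξ' : G.obj (op n')) :
    ∃ s : Finset (Σ k : ICone, (k ⟶ n) × (k ⟶ n')),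
      (∀ e ∈ s, G.map e.2.1.op ξ = G.map e.2.2.op ξ') ∧
      ∀ (v : Orth n) (w : Orth n'), P.mk ξ v = P.mk ξ' w ↔
        ∃ e ∈ s, ∃ (y : Orth e.1) (c c' : ℝ), 0 < c ∧ 0 < c' ∧
          v.1 = c • e.2.1.realMap y.1 ∧ w.1 = c' • e.2.2.realMap y.1 := by
  classical
  obtain ⟨s, h1, h2⟩ := exists_cells (bounded_coneMap hG ξ) ξ'
  have h1' : ∀ e ∈ s, G.map e.2.2.down.op ξ = G.map e.2.1.op ξ' := fun e he => (coneMap_app ξ _).symm.trans (h1 e he)
  refine ⟨s.image fun e => ⟨e.1, e.2.2.down, e.2.1⟩, ?_, fun v w => ⟨fun h => ?_, ?_⟩⟩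
  · intro e he
    obtain ⟨c, hc, rfl⟩ := Finset.mem_image.1 he
    exact h1' c hc
  · obtain ⟨e, he, y, hy, hyx⟩ := h2 (P.mk (yid n) v) w ((congrArg (P.mk · v) (coneMap_app_id ξ)).trans h)
    obtain ⟨c, hc, hv⟩ := yoneda_mk_inj (φ := e.2.2.down) hyx
    exact ⟨_, Finset.mem_image_of_mem _ he, y, c, 1, hc, one_pos, hv, by rw [one_smul, ← hy]; rfl⟩
  · rintro ⟨_, hm, y, c, c', hc, hc', ev, ew⟩
    obtain ⟨e, he, rfl⟩ := Finset.mem_image.1 hm
    exact (mk_eq_of_rel _ ξ hc ev).symm.trans ((congrArg (P.mk · y) (h1' e he)).trans (mk_eq_of_rel _ ξ' hc' ew))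

theorem isClosed_mk_image (hF : F.IsQuasiSeparated) (ξ : F.obj (op n)) {S : Set (Orth n)} (hS : IsClosed S)
    (hinv : ∀ v w : Orth n, v ∈ S → ∀ c : ℝ, 0 < c → w.1 = c • v.1 → w ∈ S) : IsClosed (P.mk ξ '' S) := by
  have hC : IsClosed (P.mk (yid n) '' S) := by
    refine (isClosed_iff _).2 fun k φ => ?_
    obtain ⟨φ⟩ := φ
    have : P.mk (yel φ) ⁻¹' (P.mk (yid n) '' S) = push φ ⁻¹' S := by
      ext w
      constructor
      · rintro ⟨v, hv, hvw⟩
        obtain ⟨c, hc, e⟩ := yoneda_mk_inj hvw.symm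
        exact hinv v _ hv c⁻¹ (inv_pos.2 hc) (by rw [e, inv_smul_smul₀ hc.ne']; rfl)
      · intro hw
        exact ⟨_, hw, (mk_map_push φ (yid n) w).symm.trans (congrArg (P.mk · w) (yel_eq φ))⟩
    show IsClosed (P.mk (yel φ) ⁻¹' _)
    rw [this]
    exact hS.preimage (continuous_push φ)
  have := isClosedMap_map (bounded_coneMap hF ξ) _ hC
  rw [Set.image_image] at this
  convert this using 3 with v
  exact (congrArg (P.mk · v) (coneMap_app_id ξ)).symm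

theorem isClosed_cell (hF : F.IsQuasiSeparated) (ξ : F.obj (op n)) : IsClosed (P.cell ξ) := by
  rw [P.cell, ← Set.image_univ]
  exact isClosed_mk_image hF ξ isClosed_univ fun _ _ _ _ _ _ => trivial

theorem isClosed_iff_cell (hF : F.IsQuasiSeparated) (S : Set (P F)) :
    IsClosed S ↔ ∀ (n : ICone) (ξ : F.obj (op n)), IsClosed (S ∩ P.cell ξ) := by
  refine ⟨fun h n ξ => h.inter (isClosed_cell hF ξ), fun h => (isClosed_iff S).2 fun n ξ => ?_⟩
  have := (h n ξ).preimage (continuous_mk ξ)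
  rwa [Set.preimage_inter, P.cell, Set.preimage_range, Set.inter_univ] at this

theorem t1Space (hF : F.IsQuasiSeparated) : T1Space (P F) := by
  refine ⟨fun x => ?_⟩
  obtain ⟨n, ξ, v, rfl⟩ := exists_mk x
  have : ({P.mk ξ v} : Set (P F)) = P.mk ξ '' (nrm ⁻¹' {nrm v}) := by
    refine Set.Subset.antisymm (Set.singleton_subset_iff.2 ⟨v, rfl, rfl⟩) ?_
    rintro _ ⟨w, hw, rfl⟩
    exact mk_eq_of_nrm ξ hw
  rw [this]
  exact isClosed_mk_image hF ξ (isClosed_singleton.preimage continuous_nrm) fun a b ha c hc e =>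
    ((nrm_eq_iff.2 ⟨c, hc, e⟩).symm.trans ha : nrm b = nrm v)

theorem exists_subseq_lift (hF : F.IsQuasiSeparated) (x : ℕ → P F) (x₀ : P F) (hx : Tendsto x atTop (𝓝 x₀)) :
    ∃ (n : ICone) (σ : F.obj (op n)) (r : ℕ → ℕ) (v : ℕ → Orth n) (v₀ : Orth n),
      StrictMono r ∧ (∀ j, P.mk σ (v j) = x (r j)) ∧ P.mk σ v₀ = x₀ ∧ Tendsto v atTop (𝓝 v₀) := by
  haveI := t1Space hF
  by_cases hfreq : ∃ᶠ j in atTop, x j = x₀
  · obtain ⟨r, hr, hrx⟩ := extraction_of_frequently_atTop hfreq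
    obtain ⟨n, σ, v, hv⟩ := exists_mk x₀
    exact ⟨n, σ, r, fun _ => v, v, hr, fun j => hv.trans (hrx j).symm, hv, tendsto_const_nhds⟩
  rw [not_frequently, eventually_atTop] at hfreq
  obtain ⟨J, hJ⟩ := hfreq
  set A := x '' Set.Ici J
  have hA : ¬ IsClosed A := fun hc => by
    obtain ⟨j, hj, hjA⟩ := (hx.eventually (hc.isOpen_compl.mem_nhds (show x₀ ∈ Aᶜ from
      fun ⟨j, hj, e⟩ => hJ j hj e))).and (eventually_ge_atTop J) |>.exists
    exact hj ⟨j, hjA, rfl⟩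
  rw [isClosed_iff_cell hF] at hA
  push Not at hA
  obtain ⟨n, σ, hσ⟩ := hA
  have hinf : ∃ᶠ j in atTop, J ≤ j ∧ x j ∈ P.cell σ := by
    rw [Nat.frequently_atTop_iff_infinite]
    intro hfin
    refine hσ (((hfin.image x).subset ?_).isClosed)
    rintro _ ⟨⟨j, hj, rfl⟩, hc⟩
    exact ⟨j, ⟨hj, hc⟩, rfl⟩
  obtain ⟨r, hr, hrp⟩ := extraction_of_frequently_atTop hinf
  choose w hw using fun j => (hrp j).2
  have hmem : ∀ j, nrm (w j) ∈ stdSimplex ℝ (Fin n.dim) := fun j =>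
    ⟨fun i => mul_nonneg (inv_pos.2 (sum_pos _)).le ((w j).2.1 i), by
      simp only [nrm, Pi.smul_apply, smul_eq_mul, ← Finset.mul_sum, inv_mul_cancel₀ (sum_pos (w j)).ne']⟩
  obtain ⟨a, ha, φ, hφ, hlim⟩ := (isCompact_stdSimplex ℝ (Fin n.dim)).tendsto_subseq hmem
  let v₀ : Orth n := ⟨a, ha.1, fun h => by
    have := ha.2; rw [h] at this; simp at this⟩
  have hv₀ : nrm v₀ = a := by
    show (∑ i, a i)⁻¹ • a = a
    rw [ha.2, inv_one, one_smul]
  let v : ℕ → Orth n := fun j => scale (∑ i, (w (φ j)).1 i)⁻¹ (inv_pos.2 (sum_pos _)) (w (φ j))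
  refine ⟨n, σ, r ∘ φ, v, v₀, hr.comp hφ, fun j => ?_, ?_, ?_⟩
  · exact (mk_scale σ (inv_pos.2 (sum_pos _)) rfl).symm.trans (hw (φ j))
  · set K := insert a (Set.range fun j => nrm (w (φ j)))
    have hK : IsClosed K := hlim.isCompact_insert_range.isClosed
    have hB := isClosed_mk_image hF σ (hK.preimage continuous_nrm) fun p q hp c hc e => by
      show nrm q ∈ K
      rw [← nrm_eq_iff.2 ⟨c, hc, e⟩]; exact hp
    have hmem : x₀ ∈ P.mk σ '' (nrm ⁻¹' K) := hB.mem_of_tendsto (hx.comp (hr.comp hφ).tendsto_atTop)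
      (Eventually.of_forall fun j => ⟨w (φ j), Set.mem_insert_of_mem _ ⟨j, rfl⟩, hw (φ j)⟩)
    obtain ⟨p, hp, rfl⟩ := hmem
    rcases hp with hp | ⟨j, hp⟩
    · exact mk_eq_of_nrm σ (hv₀.trans hp.symm)
    · exact absurd ((hw (φ j)).symm.trans (mk_eq_of_nrm σ hp)) (hJ _ (hrp _).1)
  · exact tendsto_subtype_rng.2 hlim

theorem injective_iff_rational {ψ : F ⟶ G} (hF : F.IsQuasiSeparated) :
    Function.Injective (P.map ψ) ↔
      ∀ x y : P F, x.IsRational → y.IsRational → P.map ψ x = P.map ψ y → x = y := by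
  refine ⟨fun h x y _ _ e => h e, fun h x y hxy => ?_⟩
  obtain ⟨n₁, σ₁, v₁, rfl⟩ := exists_mk x
  obtain ⟨n₂, σ₂, v₂, rfl⟩ := exists_mk y
  obtain ⟨m, a, b, z, c₁, c₂, e, h1, h2, e1, e2⟩ := mk_eq_mk_iff.1 hxy
  rw [← mk_eq_of_rel a σ₁ h1 e1, ← mk_eq_of_rel b σ₂ h2 e2]
  set τ := F.map a.op σ₁
  set τ' := F.map b.op σ₂
  have he : ψ.app _ τ = ψ.app _ τ' := by
    simp only [τ, τ', NatTrans.naturality_apply]; exact e
  obtain ⟨s, hs1, hs2⟩ := coincidence hF τ τ'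
  have hE : {v : Orth m | P.mk τ v = P.mk τ' v} =
      ⋃ e ∈ s, push e.2.1 '' {y | nrm (push e.2.1 y) = nrm (push e.2.2 y)} := by
    ext v
    simp only [Set.mem_setOf_eq, Set.mem_iUnion, Set.mem_image, exists_prop]
    rw [hs2]
    constructor
    · rintro ⟨e, he, y, c, c', hc, hc', ev, ev'⟩
      refine ⟨e, he, scale c hc y, ?_, Subtype.ext (by rw [ev]; exact realMap_smul _ _ _)⟩
      refine nrm_eq_iff.2 ⟨c / c', div_pos hc hc', ?_⟩
      show _ = _ • e.2.1.realMap (c • y.1)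
      show e.2.2.realMap (c • y.1) = _
      rw [realMap_smul, realMap_smul, ← ev, ev', smul_smul, div_mul_cancel₀ _ hc'.ne']
    · rintro ⟨e, he, y, hy, rfl⟩
      obtain ⟨c, hc, hc'⟩ := nrm_eq_iff.1 hy
      refine ⟨e, he, y, 1, c⁻¹, one_pos, inv_pos.2 hc, (one_smul ℝ _).symm, ?_⟩
      have hc'' : e.2.2.realMap y.1 = c • (push e.2.1 y).1 := hc'
      rw [hc'', inv_smul_smul₀ hc.ne']
  have hclosed : IsClosed {v : Orth m | P.mk τ v = P.mk τ' v} := by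
    rw [hE]
    exact s.finite_toSet.isClosed_biUnion fun e _ => isClosed_push_image _
      (isClosed_eq (continuous_nrm.comp (continuous_push _)) (continuous_nrm.comp (continuous_push _)))
  by_contra hne
  obtain ⟨w, hw, g, hg, hg0, hc⟩ := rational_dense (v := z) hclosed.isOpen_compl hne
  exact hw (h _ _ (exists_ray τ g hg hg0 w hc) (exists_ray τ' g hg hg0 w hc) (by rw [map_mk, map_mk, he]))

end Groth.Agent.InstabFanLib
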